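import Groth.Agent.L22.ZeroScheme
import Groth.Agent.L19.IdealInvertible
import Groth.Agent.L08.Cube.Inverse
import Groth.Agent.L18.Ample

/-!
# The divisor of a section of an invertible module on an integral scheme
-/

set_option autoImplicit false
set_option backward.isDefEq.respectTransparency false
set_option linter.style.haveILetI false
set_option linter.unusedSectionVars false

universe u

open CategoryTheory AlgebraicGeometry TopologicalSpace Opposite

noncomputable section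

namespace Groth.L03.SurfAmple

open Groth.L18.Frame (rs ro rs_rs rs_self rs_smul ro_ro ro_self ro_mul IsFrame)
open Groth.L18.GenLoc (secOf tens tens_rs tens_smul_left tens_smul_right isFrame_tens genLocus_inf_eq)

variable {X : Scheme.{u}} [IsIntegral X] {L : X.Modules} (hL : PicF.IsInvertible L)
  (s : Coh.structureModule X ⟶ L) (hη : genericPoint X ∈ CohB1.genLocus L s)

include hL in
theorem zeroScheme_ideal_span {V : X.affineOpens} {e : Γ(L, V.1)} (he : IsFrame L V.1 e) {c : Γ(X, V.1)}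
    (hc : c • e = rs L le_top (secOf s)) : (PicF2.zeroScheme L s).ideal V = Ideal.span {c} := by
  rw [Groth.L22.ZeroScheme.zeroScheme_ideal hL s V]
  ext a
  rw [Groth.L22.ZeroScheme.mem_idealOn_iff, Ideal.mem_span_singleton']
  constructor
  · intro h
    obtain ⟨b, hb⟩ := h e
    rw [← hc, smul_smul] at hb
    exact ⟨b, (he.inj le_rfl (by rwa [rs_self])).symm⟩
  · rintro ⟨b, rfl⟩ m
    obtain ⟨d, hd⟩ := he.exists_coeff le_rfl m
    rw [rs_self] at hd
    exact ⟨b * d, by rw [← hd, ← hc, smul_smul, smul_smul]; congr 1; ring⟩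

include hη in
theorem coeff_ne_zero {V : X.Opens} (hV : (V : Set X).Nonempty) {e : Γ(L, V)} (he : IsFrame L V e) {c : Γ(X, V)}
    (hc : c • e = rs L le_top (secOf s)) : c ≠ 0 := by
  intro h0
  have h1 : genericPoint X ∈ X.basicOpen c := by
    rw [← genLocus_inf_eq s he hc]
    exact ⟨hη, (genericPoint_spec X).mem_open_set_iff V.2 |>.2 (by simpa using hV)⟩
  rw [h0, Scheme.basicOpen_zero] at h1
  exact h1

include hL hη in
theorem isEffCartierIdeal_zeroScheme : BlowUp.IsEffCartierIdeal (PicF2.zeroScheme L s) := by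
  intro x
  obtain ⟨W, e, hW, hxW, he⟩ := Groth.L18.GenLoc.exists_affine_frame hL x
  obtain ⟨c, hc⟩ := he.exists_coeff le_rfl (rs L le_top (secOf s))
  rw [rs_self] at hc
  haveI : Nonempty (⟨W, hW⟩ : X.affineOpens).1 := ⟨⟨x, hxW⟩⟩
  exact ⟨⟨W, hW⟩, hxW, c, mem_nonZeroDivisors_of_ne_zero (coeff_ne_zero s hη ⟨x, hxW⟩ he hc),
    zeroScheme_ideal_span hL s (V := ⟨W, hW⟩) he hc⟩

include hL hη in
/-- The module of the zero scheme is inverse to `L`. -/
theorem nonempty_tensor_zeroScheme :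
    Nonempty (CohB1.tensorMod (ClSub.idealMod (PicF2.zeroScheme L s)) L ≅ Coh.structureModule X) := by
  set I := PicF2.zeroScheme L s
  set J := ClSub.idealMod I
  have hJ : PicF.IsInvertible J :=
    (Groth.Agent.L19.IdealInvertible.isEffCartier_iff I).2 (isEffCartierIdeal_zeroScheme hL s hη)
  let io : ∀ V : X.Opens, Γ(J, V) → Γ(X, V) := Groth.Agent.L19.IdealInvertible.io I
  have io_smul : ∀ (V : X.Opens) (a : Γ(X, V)) (m : Γ(J, V)), io V (a • m) = a * io V m := fun V a m =>
    Groth.Agent.L19.IdealInvertible.io_smul I a m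
  have io_rs : ∀ (V V' : X.Opens) (h : V' ≤ V) (m : Γ(J, V)), io V' (rs J h m) = ro h (io V m) :=
    fun V V' h m => Groth.Agent.L19.IdealInvertible.io_rs I h m
  have hcov : ∀ x : X, ∃ (W : X.Opens) (e : Γ(L, W)) (m : Γ(J, W)), x ∈ W ∧ IsFrame L W e ∧ IsFrame J W m ∧
      io W m • e = rs L le_top (secOf s) := by
    intro x
    obtain ⟨W₁, d, hW₁, hd⟩ := Groth.L18.Frame.exists_frame hL x
    obtain ⟨W₂, μ₀, hW₂, hμ₀⟩ := Groth.L18.Frame.exists_frame hJ x
    obtain ⟨W, hW, hxW, hWle⟩ :=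
      exists_isAffineOpen_mem_and_subset (x := x) (U := W₁ ⊓ W₂) ⟨hW₁, hW₂⟩
    have hle₁ : W ≤ W₁ := fun y hy => (hWle hy).1
    have hle₂ : W ≤ W₂ := fun y hy => (hWle hy).2
    have he := hd.mono hle₁
    have hμ := hμ₀.mono hle₂
    obtain ⟨c, hc⟩ := he.exists_coeff le_rfl (rs L le_top (secOf s))
    rw [rs_self] at hc
    have hspan := zeroScheme_ideal_span hL s (V := ⟨W, hW⟩) he hc
    set μ := rs J hle₂ μ₀
    set g := io W μ
    have hgc : Ideal.span {g} = Ideal.span {c} := by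
      rw [← hspan]
      ext a
      rw [Groth.L18.IdealModule.mem_ideal_iff I hW, Ideal.mem_span_singleton']
      constructor
      · rintro ⟨b, rfl⟩
        exact ⟨b • μ, io_smul W b μ⟩
      · rintro ⟨n, rfl⟩
        obtain ⟨b, hb⟩ := hμ.exists_coeff le_rfl n
        rw [rs_self] at hb
        exact ⟨b, by rw [← io_smul, hb]⟩
    haveI : Nonempty W := ⟨⟨x, hxW⟩⟩
    obtain ⟨v, hv⟩ := Ideal.span_singleton_eq_span_singleton.1 hgc
    exact ⟨W, rs L hle₁ d, (v : Γ(X, W)) • μ, hxW, he, hμ.smul_unit v.isUnit,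
      by rw [io_smul, mul_comm, hv, hc]⟩
  choose W e m hW he hm hme using hcov
  let T : ∀ i : X, Γ(CohB1.tensorMod J L, W i) := fun i => tens J L (W i) (m i) (e i)
  have hT : ∀ i j : X, rs (CohB1.tensorMod J L) (inf_le_left : W i ⊓ W j ≤ W i) (T i) =
      rs (CohB1.tensorMod J L) (inf_le_right : W i ⊓ W j ≤ W j) (T j) := by
    intro i j
    rw [tens_rs, tens_rs]
    obtain ⟨b, hb⟩ := ((he i).mono (inf_le_left : W i ⊓ W j ≤ W i)).exists_coeff le_rfl
      (rs L (inf_le_right : W i ⊓ W j ≤ W j) (e j))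
    rw [rs_self] at hb
    have h1 := congrArg (rs L (inf_le_left : W i ⊓ W j ≤ W i)) (hme i)
    have h2 := congrArg (rs L (inf_le_right : W i ⊓ W j ≤ W j)) (hme j)
    rw [rs_smul, rs_rs] at h1 h2
    rw [← hb, smul_smul, ← h1] at h2
    have h3 : ro (inf_le_right : W i ⊓ W j ≤ W j) (io _ (m j)) * b = ro (inf_le_left : W i ⊓ W j ≤ W i) (io _ (m i)) :=
      ((he i).mono (inf_le_left : W i ⊓ W j ≤ W i)).inj le_rfl (by rw [rs_self]; exact h2)
    have h4 : rs J (inf_le_left : W i ⊓ W j ≤ W i) (m i) = b • rs J (inf_le_right : W i ⊓ W j ≤ W j) (m j) := by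
      refine Groth.Agent.L19.IdealInvertible.io_inj I _ ?_
      show io _ (rs J _ (m i)) = io _ (b • rs J _ (m j))
      rw [io_smul, io_rs, io_rs, mul_comm]
      exact h3.symm
    rw [h4, ← hb, tens_smul_left, tens_smul_right]
  let OT : TopCat.Sheaf Ab.{u} X.toTopCat := ⟨(CohB1.tensorMod J L).presheaf, (CohB1.tensorMod J L).isSheaf⟩
  obtain ⟨τ, hτ, -⟩ := OT.existsUnique_gluing' W ⊤ (fun i => homOfLE le_top)
    (fun x _ => Opens.mem_iSup.2 ⟨x, hW x⟩) T fun i j => hT i j
  refine Groth.L08.Cube.nonempty_iso_of_frame_top (σ := τ)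
    (IsFrame.of_cover W (fun _ => le_top) (fun x _ => Opens.mem_iSup.2 ⟨x, hW x⟩) fun i => ?_)
  rw [show rs (CohB1.tensorMod J L) le_top τ = T i from hτ i]
  exact isFrame_tens (hm i) (he i)

end Groth.L03.SurfAmple
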