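import Groth.Agent.L03.SurfAmple.Main
import Groth.Agent.L08.Cube.SmoothStalk

/-!
# Ample modules on regular proper surfaces
-/

set_option autoImplicit false
set_option backward.isDefEq.respectTransparency false

universe u

open CategoryTheory AlgebraicGeometry TopologicalSpace

namespace Groth.L03.SurfAmple

variable (k : Type u) [Field k] (X : Scheme.{u}) [X.Over (Spec (CommRingCat.of k))]
  [IsProper (X ↘ Spec (CommRingCat.of k))] [IsIntegral X]

include k in
/-- An integral regular proper surface has an ample invertible module. -/
theorem exists_ample (hdim : topologicalKrullDim X = (2 : ℕ))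
    (hreg : ∀ x : X, IsRegularLocalRing (X.presheaf.stalk x)) : ∃ H : X.Modules, CohB1.IsAmple H := by
  obtain ⟨x⟩ := (inferInstance : Nonempty X)
  obtain ⟨U, hU, hxU, -⟩ := exists_isAffineOpen_mem_and_subset (x := x) (U := ⊤) trivial
  obtain ⟨L, -, hL, -⟩ := exists_ample_section k hdim hreg U hU ⟨x, hxU⟩
  exact ⟨L, hL⟩

include k in
/-- An integral smooth proper surface has an ample invertible module. -/
theorem exists_ample_of_smooth [Smooth (X ↘ Spec (CommRingCat.of k))] (hdim : topologicalKrullDim X = 2) :
    ∃ H : X.Modules, CohB1.IsAmple H :=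
  exists_ample k X (hdim.trans Nat.cast_ofNat.symm)
    (fun z => Groth.L08.Cube.isRegularLocalRing_of_smooth (X ↘ Spec (CommRingCat.of k)) z)

end Groth.L03.SurfAmple
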