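import Groth.Agent.L03.SurfNum.Curves
import Groth.Agent.L22.Big.Support
import Groth.Agent.L08.Cube.Inverse
import Groth.Agent.L21.RR.Finite

/-!
# Sections vanishing on curves, bounded sections in nonpositive degree
-/

set_option autoImplicit false
set_option backward.isDefEq.respectTransparency false
set_option linter.style.haveILetI false
set_option linter.unusedSectionVars false

universe u

open CategoryTheory CategoryTheory.Limits AlgebraicGeometry TopologicalSpace

noncomputable section

namespace Groth.L03.SurfAmple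

open Groth.L22.Inter Groth.L22.Nef Groth.L22.Big Groth.L03.Euler Groth.L16
open Groth.L00.Tensor (tensorIso tensorUnitLeft)

variable (k : Type u) [Field k]

section Integral

variable {C : Scheme.{u}} [C.Over (Spec (CommRingCat.of k))]
  [IsProper (C ↘ Spec (CommRingCat.of k))] [IsIntegral C]

omit k in
theorem nonempty_iso_of_genLocus_top {X : Scheme.{u}} {N : X.Modules} (s : Coh.structureModule X ⟶ N)
    (h : CohB1.genLocus N s = ⊤) : Nonempty (N ≅ Coh.structureModule X) := by
  refine Groth.L08.Cube.nonempty_iso_of_frame_top (σ := Groth.L18.GenLoc.secOf s) ?_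
  have h1 := (Groth.L18.GenLoc.isFrame_genLocus s).mono h.ge
  rwa [Groth.L18.Frame.rs_rs, Groth.L18.Frame.rs_self] at h1

/-- A section with a zero on an integral curve forces positive degree. -/
theorem altT_pos_of_vanishing (hd : topologicalKrullDim C = (1 : ℕ)) {N : C.Modules} (hN : PicF.IsInvertible N)
    (s : Coh.structureModule C ⟶ N) (hs : genericPoint C ∈ CohB1.genLocus N s) {z : C}
    (hz : z ∉ CohB1.genLocus N s) : 0 < altT k (fun _ : Fin 1 => N) (Coh.structureModule C) := by
  haveI := Groth.L21.RR.isNoetherian_of_proper (X := C) k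
  haveI : Mono s := Groth.L22.Nakai.mono_of_injective (Groth.L18.Ample.isInvertible_structureModule C) s
    (bijective_stalk_section s hs).1
  obtain ⟨hD, hη⟩ := cokernel_facts k (Groth.L18.Ample.isInvertible_structureModule C) hN s
  have hd0 : topologicalKrullDim (CohB1.support (cokernel s)) ≤ (0 : ℕ) :=
    dim_le_of_generic_notMem (Groth.L16.CohSupport.isClosed_support _ hD.2) hη hd.le
  have hmap := altT_map k (L := fun i : Fin 0 => i.elim0) (fun i => i.elim0)
    (Groth.L16.CohClosedPush.isCoh_structure (X := C)) (Groth.L18.Ample.isCoh_of_isInvertible hN) s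
  have hk0 : altT k (fun i : Fin 0 => i.elim0) (kernel s) = 0 := by
    rw [altT, twEuler_of_isZero k (fun i => i.elim0) (isZero_kernel_of_mono _), map_zero]
  rw [hk0] at hmap
  have h0' : (fun _ : Fin 1 => N) = Fin.cons N (fun i : Fin 0 => i.elim0) := funext fun i => by fin_cases i; rfl
  rw [h0', altT_cons, altT_iso k _ (Groth.L00.Tensor.tensorUnitLeft N)]
  suffices 0 < altT k (fun i : Fin 0 => i.elim0) (cokernel s) by linarith
  have hsc := Groth.L22.CurveDeg.suppClosed_of_dim hD (by simpa using hd0)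
  rw [altT_zero_eq, Groth.L21.RR.euler_eq_h0_of_suppClosed k hsc]
  have hzs : z ∈ CohB1.support (cokernel s) := by
    haveI : Coh.IsQCoh N := (Groth.L18.Ample.isCoh_of_isInvertible hN).1
    by_contra hns
    exact hz ((Groth.L21.RR.mem_genLocus_iff hN s z).2 ((notMem_support_cokernel_iff ..).1 hns))
  obtain ⟨v, hv⟩ : ∃ v : (cokernel s).presheaf.stalk z, v ≠ 0 := by
    by_contra hall
    push_neg at hall
    exact hzs (subsingleton_of_forall_eq 0 hall)
  obtain ⟨t, ht⟩ := Groth.L21.RR.exists_section_germ hsc z v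
  have hne : Nontrivial (Coh.HH C (cokernel s) 0) := by
    refine ⟨⟨(Groth.L21.RR.e0 _).symm t, 0, fun h => hv ?_⟩⟩
    have h1 := congrArg (Groth.L21.RR.e0 _) h
    rw [AddEquiv.apply_symm_apply, map_zero] at h1
    rw [← ht.1, h1, map_zero]
  haveI := ProperFinite.finite_HH k hD 0
  have : 0 < Groth.L21.RR.h k 0 (cokernel s) := Module.finrank_pos_iff.2 hne
  exact_mod_cast this

/-- In nonpositive degree there are no more sections than constants. -/
theorem h0_le_of_deg_nonpos (hd : topologicalKrullDim C ≤ (1 : ℕ)) {N : C.Modules} (hN : PicF.IsInvertible N)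
    (hdeg : topologicalKrullDim C = (1 : ℕ) → altT k (fun _ : Fin 1 => N) (Coh.structureModule C) ≤ 0) :
    h0 k N ≤ h0 k (Coh.structureModule C) := by
  rcases Nat.eq_zero_or_pos (h0 k N) with h | h
  · omega
  obtain ⟨s, hs⟩ := exists_nonzero_of_h0 k h
  have hη := Groth.L22.CurveAmple.genericPoint_mem_genLocus hN hs
  have htop : CohB1.genLocus N s = ⊤ := by
    by_contra hne
    obtain ⟨z, hz⟩ : ∃ z : C, z ∉ CohB1.genLocus N s := by
      by_contra hall
      push_neg at hall
      exact hne (top_le_iff.1 fun z _ => hall z)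
    rcases eq_or_lt_of_le hd with hd1 | hd1
    · exact absurd (hdeg hd1) (not_le.2 (altT_pos_of_vanishing k hd1 hN s hη hz))
    · have huniv : topologicalKrullDim (Set.univ : Set C) ≤ (0 : ℕ) := by
        rw [IsHomeomorph.topologicalKrullDim_eq _ (Homeomorph.Set.univ C).isHomeomorph]
        have h1 := Groth.L22.Inter.add_one_le_of_lt hd1
        revert h1
        induction topologicalKrullDim C using WithBot.recBotCoe with
        | bot => simp
        | coe t =>
          intro h1
          change ((t + 1 : ℕ∞) : WithBot ℕ∞) ≤ ((1 : ℕ∞) : WithBot ℕ∞) at h1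
          change (t : WithBot ℕ∞) ≤ ((0 : ℕ∞) : WithBot ℕ∞)
          rw [WithBot.coe_le_coe] at h1 ⊢
          exact (ENat.add_le_add_iff_right (ENat.one_ne_top)).1 (h1.trans_eq (zero_add _).symm)
      have : genericPoint C = z := eq_of_specializes_top (T := Set.univ) isClosed_univ huniv
        (le_antisymm ((topologicalKrullDim_set_mono (Set.subset_univ _)).trans huniv)
          (zero_le_topologicalKrullDim (Set.Nonempty.closure (Set.singleton_nonempty z))))
        trivial (genericPoint_specializes z)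
      exact hz (this ▸ hη)
  rw [h0_iso k (nonempty_iso_of_genLocus_top s htop).some]

end Integral

variable {X : Scheme.{u}} [X.Over (Spec (CommRingCat.of k))] [IsProper (X ↘ Spec (CommRingCat.of k))]

/-- Bounded sections: `L` has nonpositive degree on the curves in the support. -/
theorem exists_h0_bound {L : X.Modules} (hL : PicF.IsInvertible L) {F : X.Modules} (hF : Coh.IsCoh F)
    (hd : topologicalKrullDim (CohB1.support F) ≤ (1 : ℕ))
    (hdeg : ∀ y ∈ CohB1.support F, topologicalKrullDim (closure ({y} : Set X)) = (1 : ℕ) →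
      altT k (fun _ : Fin 1 => L) (ClSub.quotMod (pt y)) ≤ 0) :
    ∃ C : ℕ, ∀ m : ℕ, h0 k (CohB1.tensorMod F (CohB1.tensorPow L m)) ≤ C := by
  haveI := Groth.L21.RR.isNoetherian_of_proper (X := X) k
  haveI : X.IsSeparated := ⟨by rw [← terminal.comp_from (X ↘ Spec (CommRingCat.of k))]; infer_instance⟩
  haveI := hF.1
  let J := SchSupport.annIdeal hF
  haveI := SchSupport.isIso_unit_annIdeal hF
  let i := J.subschemeι
  let Z := J.subscheme
  let M := (Scheme.Modules.pullback i).obj F
  have hM : Coh.IsCoh M := Groth.L17.KilledUnit.isCoh_pullback_of_killed i F hF (SchSupport.killed_ker hF)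
  have e : (Coh.push i).obj M ≅ F := (asIso ((Scheme.Modules.pullbackPushforwardAdjunction i).unit.app F)).symm
  have hrange : Set.range i = CohB1.support F := by
    rw [Scheme.IdealSheafData.range_subschemeι, SchSupport.coe_support_annIdeal hF]
  letI : Z.Over (Spec (CommRingCat.of k)) := ⟨i ≫ X ↘ Spec (CommRingCat.of k)⟩
  haveI : IsProper (Z ↘ Spec (CommRingCat.of k)) :=
    inferInstanceAs (IsProper (i ≫ X ↘ Spec (CommRingCat.of k)))
  haveI := Groth.L21.RR.isNoetherian_of_proper (X := Z) k
  have hdZ : topologicalKrullDim Z ≤ (1 : ℕ) := by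
    rw [IsHomeomorph.topologicalKrullDim_eq _ i.isEmbedding.toHomeomorph.isHomeomorph, hrange]
    exact hd
  let LZ : ℕ → Z.Modules := fun m => (Scheme.Modules.pullback i).obj (CohB1.tensorPow L m)
  suffices ∀ M : Z.Modules, Coh.IsCoh M → ∃ C : ℕ, ∀ m : ℕ, h0 k (CohB1.tensorMod M (LZ m)) ≤ C by
    obtain ⟨C, hC⟩ := this M hM
    refine ⟨C, fun m => ?_⟩
    rw [← h0_iso k (tensorIso e (Iso.refl _)), h0_def,
      finrank_push k i rfl (Groth.L18.Ample.isInvertible_tensorPow hL m) M hM.1, ← h0_def]
    exact hC m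
  intro M hM
  have hLZ : ∀ m, PicF.IsInvertible (LZ m) := fun m =>
    Groth.L18.Ample.isInvertible_pullback i (Groth.L18.Ample.isInvertible_tensorPow hL m)
  refine Devissage.devissage_ideals (P := fun M => ∃ C : ℕ, ∀ m : ℕ, h0 k (CohB1.tensorMod M (LZ m)) ≤ C)
    (fun M N e ⟨C, hC⟩ => ⟨C, fun m => (h0_iso k (tensorIso e.some.symm (Iso.refl _))).trans_le (hC m)⟩)
    (fun M h => ⟨0, fun m => ?_⟩) (fun S hS h₁ h₂ h₃ ⟨C₁, hC₁⟩ ⟨C₃, hC₃⟩ => ⟨C₁ + C₃, fun m => ?_⟩)
    (fun W j hj hW I ι hι hI => ?_) hM
  · haveI : Subsingleton (Coh.HH Z (CohB1.tensorMod M (LZ m)) 0) :=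
      Groth.L03.Euler.subsingleton_HH_of_isZero ((Groth.L00.Tensor.tensorRightF (LZ m)).map_isZero h) 0
    rw [h0_def]
    exact (Module.finrank_zero_of_subsingleton (R := k)).le
  · have hT := shortExact_tensor (hLZ m) hS
    exact (h0_le_add k hT (isCoh_tensor (hLZ m) h₁) (isCoh_tensor (hLZ m) h₂) (isCoh_tensor (hLZ m) h₃)).trans
      (Nat.add_le_add (hC₁ m) (hC₃ m))
  haveI := hj; haveI := hW; haveI := hι; haveI := hI
  letI : W.Over (Spec (CommRingCat.of k)) := ⟨j ≫ Z ↘ Spec (CommRingCat.of k)⟩
  haveI : IsProper (W ↘ Spec (CommRingCat.of k)) :=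
    inferInstanceAs (IsProper (j ≫ Z ↘ Spec (CommRingCat.of k)))
  haveI := Groth.L21.RR.isNoetherian_of_proper (X := W) k
  haveI : Z.IsSeparated := ⟨by rw [← terminal.comp_from (Z ↘ Spec (CommRingCat.of k))]; infer_instance⟩
  have hdW : topologicalKrullDim W ≤ (1 : ℕ) := (j.isClosedEmbedding.topologicalKrullDim_le).trans hdZ
  refine ⟨h0 k (Coh.structureModule W), fun m => ?_⟩
  let N := (Scheme.Modules.pullback j).obj (LZ m)
  have hN : PicF.IsInvertible N := Groth.L18.Ample.isInvertible_pullback j (hLZ m)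
  rw [h0_def, finrank_push k j rfl (hLZ m) I hI, ← h0_def]
  haveI : Mono ((Groth.L00.Tensor.tensorRightF N).map ι) :=
    (shortExact_tensor hN (S := ShortComplex.mk ι (cokernel.π ι) (cokernel.condition ι))
      { exact := ShortComplex.exact_cokernel ι }).mono_f
  refine le_trans (h0_le_of_mono k
    ((Groth.L00.Tensor.tensorRightF N).map ι ≫ (tensorUnitLeft N).hom) (Groth.L18.Ample.isCoh_of_isInvertible hN))
    (h0_le_of_deg_nonpos k hdW hN fun hdW1 => ?_)
  let g := j ≫ i
  haveI : IsClosedImmersion g := inferInstanceAs (IsClosedImmersion (j ≫ i))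
  have hcomp : N ≅ (Scheme.Modules.pullback g).obj (CohB1.tensorPow L m) :=
    (Scheme.Modules.pullbackComp j i).app (CohB1.tensorPow L m)
  rw [altT_congr k (L' := fun _ : Fin 1 => (Scheme.Modules.pullback g).obj (CohB1.tensorPow L m)) fun _ => ⟨hcomp⟩,
    altT_push_eq k g (Category.assoc _ _ _) hdW1 (L := fun _ : Fin 1 => CohB1.tensorPow L m)
      fun _ => Groth.L18.Ample.isInvertible_tensorPow hL m]
  set y := g (genericPoint W)
  have hy : topologicalKrullDim (closure ({y} : Set X)) = (1 : ℕ) := (dim_closure_image g).trans hdW1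
  have hys : y ∈ CohB1.support F := hrange ▸ ⟨j (genericPoint W), rfl⟩
  have e1 : (fun _ : Fin 1 => CohB1.tensorPow L m) = Fin.cons (CohB1.tensorPow L m) (fun i : Fin 0 => i.elim0) :=
    funext fun i => by fin_cases i; rfl
  have e2 : (fun _ : Fin 1 => L) = Fin.cons L (fun i : Fin 0 => i.elim0) :=
    funext fun i => by fin_cases i; rfl
  have h1 := hdeg y hys hy
  rw [e2] at h1
  rw [e1, altT_pow k (fun i => i.elim0) hL (pt_facts y).1
    ((topologicalKrullDim_set_mono (pt_facts y).2.1).trans hy.le) m]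
  exact mul_nonpos_of_nonneg_of_nonpos (Nat.cast_nonneg _) h1

end Groth.L03.SurfAmple
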