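import Groth.Agent.L03.SurfNum.Gram
import Groth.Agent.L03.SurfAmple.Curve
import Groth.Agent.L22.LocalDim
import Groth.Agent.S7821

/-!
# The curves in the complement of an affine open of a regular proper surface
-/

set_option autoImplicit false
set_option backward.isDefEq.respectTransparency false
set_option linter.style.haveILetI false
set_option linter.unusedSectionVars false

universe u

open CategoryTheory CategoryTheory.Limits AlgebraicGeometry TopologicalSpace

noncomputable section

namespace Groth.L03.SurfAmple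

open Groth.L22.Inter Groth.L22.Nef Groth.L22.Big Groth.L03.Euler Groth.L03.SurfNum

variable (k : Type u) [Field k] {X : Scheme.{u}} [X.Over (Spec (CommRingCat.of k))]
  [IsProper (X ↘ Spec (CommRingCat.of k))]

include k in
/-- An integral proper scheme inside an affine open is a point. -/
theorem dim_closure_le_zero {U : X.Opens} (hU : IsAffineOpen U) {y : X} (hy : closure ({y} : Set X) ⊆ U) :
    topologicalKrullDim (closure ({y} : Set X)) ≤ (0 : ℕ) := by
  haveI := isIntegral_pt y
  let g := (pt y).subschemeι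
  let Z := (pt y).subscheme
  haveI : IsProper (g ≫ (X ↘ Spec (CommRingCat.of k))) := inferInstance
  have hr : Set.range g ⊆ Set.range U.ι := by rw [range_pt, Scheme.Opens.range_ι]; exact hy
  let l := IsOpenImmersion.lift U.ι g hr
  haveI : IsAffine U.toScheme := hU
  haveI : IsClosedImmersion l := by
    haveI : IsClosedImmersion (l ≫ U.ι) := by rw [IsOpenImmersion.lift_fac]; infer_instance
    exact IsClosedImmersion.of_comp l U.ι
  haveI : IsAffine Z := isAffine_of_isAffineHom l
  have hfield := AlgebraicGeometry.isField_of_universallyClosed (K := k) (g ≫ (X ↘ Spec (CommRingCat.of k)))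
  have h1 : topologicalKrullDim (closure ({y} : Set X)) = topologicalKrullDim Z := by
    rw [← dim_closure_image g, genericPoint_pt]
  have h2 : topologicalKrullDim ((⊤ : Z.Opens) : Set Z) = ringKrullDim Γ(Z, ⊤) :=
    Groth.L22.SchemeDim.topologicalKrullDim_affineOpen (isAffineOpen_top Z)
  rw [show topologicalKrullDim ((⊤ : Z.Opens) : Set Z) = topologicalKrullDim Z from
    IsHomeomorph.topologicalKrullDim_eq _ (Homeomorph.Set.univ Z).isHomeomorph] at h2
  rw [h1, h2, ringKrullDim_eq_zero_of_isField hfield, Nat.cast_zero]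

variable [IsIntegral X] (hdim : topologicalKrullDim X = (2 : ℕ)) (U : X.Opens) (hUa : IsAffineOpen U)
  (hU : (U : Set X).Nonempty)

include k hdim hUa hU in
theorem exists_curves :
    ∃ S : Finset X, (∀ y, y ∈ S ↔ y ∉ U ∧ topologicalKrullDim (closure ({y} : Set X)) = (1 : ℕ)) ∧
      (∀ z, z ∉ U → ∃ y ∈ S, z ∈ closure ({y} : Set X)) ∧
      topologicalKrullDim ((U : Set X)ᶜ : Set X) ≤ (1 : ℕ) := by
  haveI := Groth.L21.RR.isNoetherian_of_proper (X := X) k
  haveI : X.IsSeparated := ⟨by rw [← terminal.comp_from (X ↘ Spec (CommRingCat.of k))]; infer_instance⟩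
  haveI : IsAffineHom U.ι := isAffineHom_of_forall_exists_isAffineOpen _ fun x => by
    obtain ⟨_, ⟨W, hW, rfl⟩, hxW, -⟩ := X.isBasis_affineOpens.exists_subset_of_mem_open (Set.mem_univ x) isOpen_univ
    refine ⟨W, hxW, hW, ?_⟩
    rw [← Scheme.Hom.isAffineOpen_iff_of_isOpenImmersion U.ι, Scheme.Hom.image_preimage_eq_opensRange_inf,
      Scheme.Opens.opensRange_ι]
    exact hUa.inf hW
  have hT : IsClosed ((U : Set X)ᶜ) := U.2.isClosed_compl
  have hη : genericPoint X ∉ ((U : Set X)ᶜ) := fun h =>
    h (((genericPoint_spec X).mem_open_set_iff U.2).2 (by simpa using hU))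
  have hd1 : topologicalKrullDim ((U : Set X)ᶜ : Set X) ≤ (1 : ℕ) := dim_le_of_generic_notMem hT hη hdim.le
  refine ⟨(finite_top hT hd1).toFinset, fun y => Set.Finite.mem_toFinset _, fun z hz => ?_, hd1⟩
  simp only [Set.Finite.mem_toFinset]
  obtain ⟨a, ha, htr⟩ := Groth.L22.SchemeDim.exists_dim_closure_eq_trdeg k X z
  have ha1 : a ≤ 1 := by
    have := ha.symm.trans_le ((topologicalKrullDim_set_mono (closure_minimal (Set.singleton_subset_iff.2 hz) hT)).trans hd1)
    exact_mod_cast this
  rcases (show a = 1 ∨ a = 0 by omega) with rfl | rfl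
  · exact ⟨z, ⟨hz, ha⟩, subset_closure rfl⟩
  by_contra hno
  have hgen : ∀ w : X, w ∉ U → w ⤳ z → w = z := by
    intro w hw hwz
    obtain ⟨b, hb, -⟩ := Groth.L22.SchemeDim.exists_dim_closure_eq_trdeg k X w
    have hb1 : b ≤ 1 := by
      have := hb.symm.trans_le ((topologicalKrullDim_set_mono (closure_minimal (Set.singleton_subset_iff.2 hw) hT)).trans hd1)
      exact_mod_cast this
    rcases (show b = 1 ∨ b = 0 by omega) with rfl | rfl
    · exact absurd ⟨w, ⟨hw, hb⟩, specializes_iff_mem_closure.1 hwz⟩ hno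
    · exact eq_of_specializes_top isClosed_closure hb.le ha (subset_closure rfl) hwz
  have h1 := Groth.L22.LocalDim.dim_le_one_of_isAffineHom U hz hgen
  obtain ⟨a', b', ha', hb', hab⟩ := Groth.L22.SchemeDim.exists_localDim k X z
  obtain ⟨m, hm, -, hopen⟩ := Groth.L22.SchemeDim.exists_dim_eq_trdeg k X
  have hm2 : 2 = m := by exact_mod_cast hdim.symm.trans hm
  have hl : FlatMor.localDim X z = ((2 : ℕ) : WithBot ℕ∞) := by
    refine le_antisymm ?_ (le_iInf fun V => ?_)
    · refine iInf_le_of_le ⟨⊤, trivial⟩ ?_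
      rw [hm2, ← hopen ⊤ ⟨z, trivial⟩]
      exact le_rfl
    · rw [hm2, ← hopen V.1 ⟨z, V.2⟩]
      exact le_rfl
  rw [hl] at hab
  rw [hb'] at h1
  have e1 : 2 = a' + b' := by exact_mod_cast hab
  have e2 : b' ≤ 1 := by exact_mod_cast h1
  have e3 : a' = 0 := by exact_mod_cast ha'.symm.trans htr
  omega

include k hdim in
/-- A curve through the zeros of a section has positive degree. -/
theorem altT_pt_pos {N : X.Modules} (hN : PicF.IsInvertible N) (s : Coh.structureModule X ⟶ N)
    {y : X} (hy : topologicalKrullDim (closure ({y} : Set X)) = (1 : ℕ))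
    (hys : y ∈ CohB1.genLocus N s) {z : X} (hz : z ∈ closure ({y} : Set X)) (hzs : z ∉ CohB1.genLocus N s) :
    0 < altT k (fun _ : Fin 1 => N) (ClSub.quotMod (pt y)) := by
  haveI := Groth.L21.RR.isNoetherian_of_proper (X := X) k
  haveI := isIntegral_pt y
  let g := (pt y).subschemeι
  letI : (pt y).subscheme.Over (Spec (CommRingCat.of k)) := ⟨g ≫ (X ↘ Spec (CommRingCat.of k))⟩
  haveI : IsProper ((pt y).subscheme ↘ Spec (CommRingCat.of k)) :=
    inferInstanceAs (IsProper (g ≫ (X ↘ Spec (CommRingCat.of k))))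
  have hd : topologicalKrullDim (pt y).subscheme = (1 : ℕ) := by
    rw [← dim_closure_image g, genericPoint_pt, hy]
  have h1 := altT_push_eq k g rfl hd (L := fun _ : Fin 1 => N) fun _ => hN
  rw [genericPoint_pt] at h1
  rw [← h1]
  obtain ⟨w, hw⟩ : z ∈ Set.range g := (range_pt y).ge hz
  have hgen := Groth.L18.Ample.genLocus_iso_pullback (u := g) hN s (Groth.L29.LocFree.pullbackUnitIso g).symm
  refine altT_pos_of_vanishing k hd (Groth.L18.Ample.isInvertible_pullback g hN)
    ((Groth.L29.LocFree.pullbackUnitIso g).symm.hom ≫ (Scheme.Modules.pullback g).map s) ?_ (z := w) ?_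
  · rw [hgen]
    show g (genericPoint (pt y).subscheme) ∈ CohB1.genLocus N s
    rw [genericPoint_pt]
    exact hys
  · rw [hgen]
    show ¬ g w ∈ CohB1.genLocus N s
    rw [hw]
    exact hzs

include k hdim hUa in
/-- An integral curve meets the complement of an affine open. -/
theorem exists_notMem {y : X} (hy : topologicalKrullDim (closure ({y} : Set X)) = (1 : ℕ)) :
    ∃ z ∈ closure ({y} : Set X), z ∉ U := by
  by_contra h
  push_neg at h
  have := hy.symm.trans_le (dim_closure_le_zero k hUa h)
  have : (1 : ℕ) ≤ 0 := by exact_mod_cast this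
  omega

end Groth.L03.SurfAmple
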