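import Mathlib.Algebra.BigOperators.Field
import Mathlib.Algebra.Order.BigOperators.Group.Finset
import Mathlib.Algebra.Order.Field.Basic
import Mathlib.Tactic.Linarith
import Mathlib.Tactic.FieldSimp
import Mathlib.Tactic.Ring

/-!
# Connected configurations with nonnegative off-diagonal entries

Either some positive vector has positive image or some positive vector has nonpositive image.
-/

set_option autoImplicit false

namespace Groth.L03.SurfAmple.Graph

variable {ι : Type*} {K : Type*} [Field K] [LinearOrder K] [IsStrictOrderedRing K]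

/-- `T` is connected by positive off-diagonal entries of `G`. -/
def Conn (G : ι → ι → K) (T : Finset ι) : Prop :=
  ∀ S : Finset ι, S ⊆ T → S.Nonempty → S ≠ T → ∃ i ∈ T, i ∉ S ∧ ∃ j ∈ S, 0 < G i j

variable [DecidableEq ι]

/-- Growing a set on which a positive image is achieved. -/
theorem exists_pos_of_seed {G : ι → ι → K} {T : Finset ι} (hoff : ∀ i ∈ T, ∀ j ∈ T, i ≠ j → 0 ≤ G i j)
    (hconn : Conn G T) : ∀ (n : ℕ) (S : Finset ι), (T \ S).card = n → S ⊆ T → S.Nonempty →
      ∀ a : ι → K, (∀ i ∈ S, 0 < a i) → (∀ i ∈ S, 0 < ∑ j ∈ S, G i j * a j) →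
      ∃ a : ι → K, (∀ i ∈ T, 0 < a i) ∧ ∀ i ∈ T, 0 < ∑ j ∈ T, G i j * a j := by
  intro n
  induction n with
  | zero =>
    intro S hS hST _ a ha hrow
    have : S = T := subset_antisymm hST (Finset.sdiff_eq_empty_iff_subset.1 (Finset.card_eq_zero.1 hS))
    subst this
    exact ⟨a, ha, hrow⟩
  | succ n ih =>
    intro S hS hST hne a ha hrow
    have hneT : S ≠ T := fun e => by simp [e] at hS
    obtain ⟨i, hiT, hiS, j, hjS, hij⟩ := hconn S hST hne hneT
    set R := ∑ l ∈ S, G i l * a l
    have hR : 0 < R := Finset.sum_pos' (fun l hl => mul_nonneg (hoff i hiT l (hST hl) (fun e => hiS (e ▸ hl))) (ha l hl).le)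
      ⟨j, hjS, mul_pos hij (ha j hjS)⟩
    have hd : 0 < |G i i| + 1 := by linarith [abs_nonneg (G i i)]
    set ε := R / (|G i i| + 1)
    have hε : 0 < ε := div_pos hR hd
    have hεi : 0 < G i i * ε + R := by
      have h1 : -(|G i i| * ε) ≤ G i i * ε := by nlinarith [neg_abs_le (G i i)]
      have h2 : (|G i i| + 1) * ε = R := mul_div_cancel₀ _ hd.ne'
      linarith
    refine ih (insert i S) ?_ (Finset.insert_subset hiT hST) (Finset.insert_nonempty _ _) (Function.update a i ε)
      (fun l hl => ?_) fun l hl => ?_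
    · rw [Finset.sdiff_insert, Finset.card_erase_of_mem (Finset.mem_sdiff.2 ⟨hiT, hiS⟩), hS]
      omega
    · rcases eq_or_ne l i with rfl | h
      · rwa [Function.update_self]
      · rw [Function.update_of_ne h]
        exact ha l ((Finset.mem_insert.1 hl).resolve_left h)
    · rw [Finset.sum_insert hiS, Function.update_self]
      have e : ∀ m, ∑ x ∈ S, G m x * Function.update a i ε x = ∑ x ∈ S, G m x * a x := fun m =>
        Finset.sum_congr rfl fun x hx => by rw [Function.update_of_ne fun h => hiS (by rwa [h] at hx)]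
      rw [e]
      rcases eq_or_ne l i with rfl | h
      · exact hεi
      · have hlS := (Finset.mem_insert.1 hl).resolve_left h
        exact add_pos_of_nonneg_of_pos (mul_nonneg (hoff l (hST hlS) i hiT h) hε.le) (hrow l hlS)

theorem dichotomy : ∀ (n : ℕ) (T : Finset ι) (G : ι → ι → K), T.card = n → T.Nonempty →
    (∀ i ∈ T, ∀ j ∈ T, i ≠ j → 0 ≤ G i j) → (∀ i ∈ T, ∀ j ∈ T, G i j = G j i) → Conn G T →
    (∃ a : ι → K, (∀ i ∈ T, 0 < a i) ∧ ∀ i ∈ T, 0 < ∑ j ∈ T, G i j * a j) ∨
      ∃ a : ι → K, (∀ i ∈ T, 0 < a i) ∧ ∀ i ∈ T, ∑ j ∈ T, G i j * a j ≤ 0 := by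
  intro n
  induction n with
  | zero => exact fun T _ h hne => absurd (Finset.card_eq_zero.1 h) hne.ne_empty
  | succ n ih =>
    intro T G hT hne hoff hsymm hconn
    obtain ⟨r, hr⟩ := hne
    rcases Nat.eq_zero_or_pos n with hn | hn
    · have hTr : T = {r} := Finset.eq_singleton_iff_unique_mem.2
        ⟨hr, fun x hx => Finset.card_le_one.1 (by omega) x hx r hr⟩
      rcases lt_or_ge 0 (G r r) with h | h
      · exact Or.inl ⟨fun _ => 1, fun _ _ => one_pos, fun i hi => by simp_all⟩
      · exact Or.inr ⟨fun _ => 1, fun _ _ => one_pos, fun i hi => by simp_all⟩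
    by_cases hdiag : ∃ p ∈ T, 0 ≤ G p p
    · obtain ⟨p, hp, hpp⟩ := hdiag
      obtain ⟨q, hqT, hqp, p', hp', hqp'⟩ := hconn {p} (Finset.singleton_subset_iff.2 hp)
        (Finset.singleton_nonempty _) (fun e => by rw [← e, Finset.card_singleton] at hT; omega)
      obtain rfl := Finset.mem_singleton.1 hp'
      rw [Finset.mem_singleton] at hqp
      have hd : 0 < |G q q| + 1 := by linarith [abs_nonneg (G q q)]
      set ε := G q p' / (|G q q| + 1)
      have hε : 0 < ε := div_pos hqp' hd
      have hεq : 0 < G q q * ε + G q p' := by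
        have h1 : -(|G q q| * ε) ≤ G q q * ε := by nlinarith [neg_abs_le (G q q)]
        have h2 : (|G q q| + 1) * ε = G q p' := mul_div_cancel₀ _ hd.ne'
        linarith
      refine Or.inl (exists_pos_of_seed hoff hconn _ {q, p'} rfl ?_ (Finset.insert_nonempty _ _)
        (fun x => if x = q then ε else 1) (fun x hx => ?_) fun x hx => ?_)
      · exact Finset.insert_subset hqT (Finset.singleton_subset_iff.2 hp)
      · by_cases h : x = q <;> simp [h, hε]
      · rw [Finset.sum_pair hqp, if_pos rfl, if_neg (Ne.symm hqp), mul_one]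
        rcases Finset.mem_insert.1 hx with rfl | hx
        · exact hεq
        · obtain rfl := Finset.mem_singleton.1 hx
          rw [hsymm x hp q hqT]
          exact add_pos_of_pos_of_nonneg (mul_pos hqp' hε) hpp
    push_neg at hdiag
    have hrr := hdiag r hr
    let T' := T.erase r
    let G' : ι → ι → K := fun i j => G i j + G i r * G r j / (-G r r)
    have hT' : ∀ {i}, i ∈ T' → i ∈ T ∧ i ≠ r := fun {i} hi =>
      ⟨Finset.mem_of_mem_erase hi, Finset.ne_of_mem_erase hi⟩
    have hcard : T'.card = n := by rw [Finset.card_erase_of_mem hr, hT]; omega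
    have hoff' : ∀ i ∈ T', ∀ j ∈ T', i ≠ j → 0 ≤ G' i j := fun i hi j hj hij =>
      add_nonneg (hoff i (hT' hi).1 j (hT' hj).1 hij)
        (div_nonneg (mul_nonneg (hoff i (hT' hi).1 r hr (hT' hi).2) (hoff r hr j (hT' hj).1 (hT' hj).2.symm))
          (by linarith))
    have hsymm' : ∀ i ∈ T', ∀ j ∈ T', G' i j = G' j i := fun i hi j hj => by
      simp only [G', hsymm i (hT' hi).1 j (hT' hj).1, hsymm r hr j (hT' hj).1, hsymm i (hT' hi).1 r hr]
      ring
    have hconn' : Conn G' T' := by
      intro S hS hSne hST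
      have hrS : r ∉ S := fun h => (hT' (hS h)).2 rfl
      obtain ⟨i, hiT, hiS, j, hjS, hij⟩ := hconn S (hS.trans (Finset.erase_subset _ _)) hSne
        fun e => hrS (e ▸ hr)
      by_cases hir : i = r
      · subst hir
        have hne2 : insert i S ≠ T := fun e => hST (by
          show S = T.erase i
          rw [← e, Finset.erase_insert hrS])
        obtain ⟨i', hi'T, hi'S, j', hj'S, hij'⟩ := hconn (insert i S)
          (Finset.insert_subset hr (hS.trans (Finset.erase_subset _ _))) (Finset.insert_nonempty _ _) hne2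
        rw [Finset.mem_insert, not_or] at hi'S
        have hi' : i' ∈ T' := Finset.mem_erase.2 ⟨hi'S.1, hi'T⟩
        rcases Finset.mem_insert.1 hj'S with rfl | hj'S
        · refine ⟨i', hi', hi'S.2, j, hjS, ?_⟩
          exact add_pos_of_nonneg_of_pos (hoff i' hi'T j (hT' (hS hjS)).1 fun e => hi'S.2 (e ▸ hjS))
            (div_pos (mul_pos hij' hij) (by linarith))
        · refine ⟨i', hi', hi'S.2, j', hj'S, ?_⟩
          exact add_pos_of_pos_of_nonneg hij' (div_nonneg (mul_nonneg (hoff i' hi'T i hr hi'S.1)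
            (hoff i hr j' (hT' (hS hj'S)).1 (hT' (hS hj'S)).2.symm)) (by linarith))
      · refine ⟨i, Finset.mem_erase.2 ⟨hir, hiT⟩, hiS, j, hjS, ?_⟩
        exact add_pos_of_pos_of_nonneg hij (div_nonneg (mul_nonneg (hoff i hiT r hr hir)
          (hoff r hr j (hT' (hS hjS)).1 (hT' (hS hjS)).2.symm)) (by linarith))
    have hTne : T'.Nonempty := Finset.card_pos.1 (by omega)
    have hsum : ∀ (a : ι → K) (i : ι), ∑ j ∈ T', G' i j * a j =
        (∑ j ∈ T', G i j * a j) + G i r * ((∑ j ∈ T', G r j * a j) / (-G r r)) := by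
      intro a i
      simp only [G', add_mul, Finset.sum_add_distrib, Finset.sum_div, Finset.mul_sum]
      congr 1
      exact Finset.sum_congr rfl fun j _ => by ring
    have hsplit : ∀ (a : ι → K) (c : K) (i : ι), ∑ j ∈ T, G i j * Function.update a r c j =
        G i r * c + ∑ j ∈ T', G i j * a j := by
      intro a c i
      rw [← Finset.add_sum_erase T _ hr, Function.update_self]
      congr 1
      exact Finset.sum_congr rfl fun j hj => by rw [Function.update_of_ne (Finset.ne_of_mem_erase hj)]
    have hsig : ∀ a : ι → K, (∀ i ∈ T', 0 < a i) → 0 < ∑ j ∈ T', G r j * a j := by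
      intro a ha
      obtain ⟨i, hi, hir, j, hj, hij⟩ := hconn {r} (Finset.singleton_subset_iff.2 hr)
        (Finset.singleton_nonempty _) (fun e => by rw [← e, Finset.card_singleton] at hT; omega)
      rw [Finset.mem_singleton] at hir hj
      subst hj
      exact Finset.sum_pos' (fun l hl => mul_nonneg (hoff j hr l (hT' hl).1 (hT' hl).2.symm) (ha l hl).le)
        ⟨i, Finset.mem_erase.2 ⟨hir, hi⟩, mul_pos (by rwa [hsymm j hr i hi]) (ha i (Finset.mem_erase.2 ⟨hir, hi⟩))⟩
    rcases ih T' G' hcard hTne hoff' hsymm' hconn' with ⟨a, ha, hrow⟩ | ⟨a, ha, hrow⟩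
    · left
      set c₀ := (∑ j ∈ T', G r j * a j) / (-G r r) with hc₀
      have hc₀pos : 0 < c₀ := div_pos (hsig a ha) (by linarith)
      let vals : Finset K := insert (c₀ / 2)
        (T'.image fun i => (∑ j ∈ T', G' i j * a j) / (G i r + 1) / 2)
      let e := vals.min' (Finset.insert_nonempty _ _)
      have he : 0 < e := (Finset.lt_min'_iff _ _).2 fun v hv => by
        rcases Finset.mem_insert.1 hv with rfl | hv
        · linarith
        · obtain ⟨i, hi, rfl⟩ := Finset.mem_image.1 hv
          exact div_pos (div_pos (hrow i hi) (by linarith [hoff i (hT' hi).1 r hr (hT' hi).2])) two_pos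
      have he₀ : e ≤ c₀ / 2 := Finset.min'_le _ _ (Finset.mem_insert_self _ _)
      refine ⟨Function.update a r (c₀ - e), fun i hi => ?_, fun i hi => ?_⟩
      · rcases eq_or_ne i r with rfl | h
        · rw [Function.update_self]; linarith
        · rw [Function.update_of_ne h]; exact ha i (Finset.mem_erase.2 ⟨h, hi⟩)
      · rw [hsplit]
        rcases eq_or_ne i r with rfl | h
        · have hh : c₀ * (-G i i) = ∑ j ∈ T', G i j * a j :=
            div_mul_cancel₀ _ (by linarith : 0 < -G i i).ne'
          nlinarith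
        · have hi' : i ∈ T' := Finset.mem_erase.2 ⟨h, hi⟩
          have hge := hoff i hi r hr h
          have hb : e ≤ (∑ j ∈ T', G' i j * a j) / (G i r + 1) / 2 :=
            Finset.min'_le _ _ (Finset.mem_insert_of_mem (Finset.mem_image_of_mem _ hi'))
          have hh : (∑ j ∈ T', G' i j * a j) / (G i r + 1) * (G i r + 1) = ∑ j ∈ T', G' i j * a j :=
            div_mul_cancel₀ _ (by linarith)
          have hs := hsum a i
          rw [← hc₀] at hs
          nlinarith [hrow i hi']
    · right
      refine ⟨Function.update a r ((∑ j ∈ T', G r j * a j) / (-G r r)), fun i hi => ?_, fun i hi => ?_⟩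
      · rcases eq_or_ne i r with rfl | h
        · rw [Function.update_self]; exact div_pos (hsig a ha) (by linarith)
        · rw [Function.update_of_ne h]; exact ha i (Finset.mem_erase.2 ⟨h, hi⟩)
      · rw [hsplit]
        rcases eq_or_ne i r with rfl | h
        · have hh : (∑ j ∈ T', G i j * a j) / (-G i i) * (-G i i) = ∑ j ∈ T', G i j * a j :=
            div_mul_cancel₀ _ (by linarith : 0 < -G i i).ne'
          nlinarith
        · have := hrow i (Finset.mem_erase.2 ⟨h, hi⟩)
          rw [hsum] at this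
          linarith

end Groth.L03.SurfAmple.Graph
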