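import Groth.Agent.L18.Ample
import Groth.Agent.L22.Big.Basic
import Groth.Agent.L22.Big.Growth
import Groth.Agent.L22.SchemeDim
import Groth.Agent.L21.RR.Finite
import Mathlib.RingTheory.MvPolynomial.Basic

/-!
# Sections of powers of a module whose section has affine nonvanishing locus
-/

set_option autoImplicit false
set_option backward.isDefEq.respectTransparency false
set_option linter.style.haveILetI false
set_option linter.unusedSectionVars false

universe u

open CategoryTheory CategoryTheory.Limits AlgebraicGeometry TopologicalSpace Opposite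

noncomputable section

namespace Groth.L03.SurfAmple

open Groth.L18.Frame (rs ro rs_rs rs_self rs_smul ro_ro ro_self ro_mul IsFrame)
open Groth.L18.GenLoc (secOf tens tens_rs isFrame_genLocus)
open Groth.L18.Ample (tw it fr isFrame_fr it_rs it_fr tw_unit exists_extend isInvertible_structureModule)

variable {X : Scheme.{u}} {M : X.Modules} (s : Coh.structureModule X ⟶ M)

local notation "U" => CohB1.genLocus M s
local notation "O" => Coh.structureModule X

/-- `f sᵏ` extends to a section of the `k`-th power. -/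
def Loc (f : Γ(X, U)) (k : ℕ) : Prop :=
  ∀ (W : X.Opens) (ε : Γ(M, W)), IsFrame M W ε → ∀ a : Γ(X, W), a • ε = rs M le_top (secOf s) →
    ∃ b : Γ(X, W), ro (inf_le_right : U ⊓ W ≤ W) b =
      ro (inf_le_left : U ⊓ W ≤ U) f * ro (inf_le_right : U ⊓ W ≤ W) a ^ k

theorem Loc.mul {f g : Γ(X, U)} {i j : ℕ} (hf : Loc s f i) (hg : Loc s g j) : Loc s (f * g) (i + j) :=
  fun W ε hε a ha => by
    obtain ⟨b, hb⟩ := hf W ε hε a ha
    obtain ⟨c, hc⟩ := hg W ε hε a ha
    exact ⟨b * c, by rw [ro_mul, ro_mul, hb, hc, pow_add]; ring⟩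

theorem Loc.one (k : ℕ) : Loc s (1 : Γ(X, U)) k := fun W ε hε a ha => by
  refine ⟨a ^ k, ?_⟩
  rw [show ro (inf_le_left : U ⊓ W ≤ U) (1 : Γ(X, U)) = 1 from map_one _, one_mul]
  exact map_pow _ _ _

theorem Loc.mono {f : Γ(X, U)} {i j : ℕ} (hf : Loc s f i) (h : i ≤ j) : Loc s f j := by
  have := hf.mul s (Loc.one s (j - i))
  rwa [mul_one, Nat.add_sub_cancel' h] at this

theorem Loc.pow {f : Γ(X, U)} {i : ℕ} (hf : Loc s f i) : ∀ n : ℕ, Loc s (f ^ n) (i * n)
  | 0 => by rw [pow_zero, Nat.mul_zero]; exact Loc.one s 0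
  | n + 1 => by rw [pow_succ, Nat.mul_succ]; exact (Loc.pow hf n).mul s hf

/-- The unit frame of the structure sheaf. -/
theorem isFrame_one (W : X.Opens) : IsFrame O W (show Γ(O, W) from (1 : Γ(X, W))) := fun V h => by
  have h1 : rs O h (show Γ(O, W) from (1 : Γ(X, W))) = (show Γ(O, V) from (1 : Γ(X, V))) :=
    map_one (X.presheaf.map (homOfLE h).op).hom
  rw [h1]
  have h2 : (fun a : Γ(X, V) => a • (show Γ(O, V) from (1 : Γ(X, V)))) = fun a => (show Γ(O, V) from a) :=
    funext fun a => show a * 1 = a from mul_one a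
  rw [h2]
  exact Function.bijective_id

theorem fr_rs {N L : X.Modules} {W V : X.Opens} (hV : V ≤ W) (e : Γ(N, W)) (ε : Γ(L, W)) :
    ∀ k : ℕ, rs (tw N L k) hV (fr e ε k) = fr (rs N hV e) (rs L hV ε) k
  | 0 => rfl
  | k + 1 => by
    show rs (CohB1.tensorMod (tw N L k) L) hV (tens _ L _ _ _) = tens _ L V _ _
    rw [tens_rs, fr_rs hV e ε k]

theorem it_eq {W : X.Opens} {ε : Γ(M, W)} {a : Γ(X, W)} (ha : a • ε = rs M le_top (secOf s)) (b : Γ(X, W)) (k : ℕ) :
    it (secOf s) W (show Γ(O, W) from b) k = (b * a ^ k) • fr (show Γ(O, W) from (1 : Γ(X, W))) ε k := by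
  rw [← it_fr (N := O) (secOf s) ha k]
  congr 1
  show b = b * 1
  rw [mul_one]

theorem fr_one_rs {W V : X.Opens} (hV : V ≤ W) (ε : Γ(M, W)) (k : ℕ) :
    rs (tw O M k) hV (fr (show Γ(O, W) from (1 : Γ(X, W))) ε k) =
      fr (show Γ(O, V) from (1 : Γ(X, V))) (rs M hV ε) k := by
  rw [fr_rs hV]
  congr 1
  exact map_one (X.presheaf.map (homOfLE hV).op).hom

theorem coeff_rs {W V : X.Opens} (hV : V ≤ W) {ε : Γ(M, W)} {a : Γ(X, W)} (ha : a • ε = rs M le_top (secOf s)) :
    ro hV a • rs M hV ε = rs M le_top (secOf s) := by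
  rw [← rs_smul, ha, rs_rs]

variable [IsNoetherian X] (hM : PicF.IsInvertible M)

include hM in
theorem exists_loc (f : Γ(X, U)) : ∃ k, Loc s f k := by
  obtain ⟨k, t, ht⟩ := exists_extend hM (isInvertible_structureModule X) s (show Γ(O, U) from f)
  refine ⟨k, fun W ε hε a ha => ?_⟩
  obtain ⟨b, hb⟩ := (isFrame_fr (isFrame_one W) hε k).exists_coeff le_rfl (rs (tw O M k) le_top t)
  rw [rs_self] at hb
  refine ⟨b, (isFrame_fr (isFrame_one (U ⊓ W)) (hε.mono inf_le_right) k).inj le_rfl ?_⟩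
  rw [rs_self, ← fr_one_rs (inf_le_right : U ⊓ W ≤ W) ε k, ← rs_smul, hb, rs_rs]
  refine ((rs_rs (tw O M k) (le_top : U ≤ ⊤) (inf_le_left : U ⊓ W ≤ U) t).symm).trans ?_
  rw [ht, it_rs, fr_one_rs]
  exact it_eq s (coeff_rs s (inf_le_right : U ⊓ W ≤ W) ha) _ k

variable [IsIntegral X]

include hM in
theorem exists_section_of_loc (hU : (U : Set X).Nonempty) {f : Γ(X, U)} {k : ℕ} (hf : Loc s f k) :
    ∃ t : Γ(tw O M k, ⊤), rs (tw O M k) le_top t = it (secOf s) U (show Γ(O, U) from f) k := by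
  choose W ε hxW hε using fun x : X => Groth.L18.Frame.exists_frame hM x
  choose a ha using fun x : X => (hε x).exists_coeff le_rfl (rs M le_top (secOf s))
  simp only [rs_self] at ha
  choose b hb using fun x : X => hf (W x) (ε x) (hε x) (a x) (ha x)
  let t : ∀ x : X, Γ(tw O M k, W x) := fun x => b x • fr (show Γ(O, W x) from (1 : Γ(X, W x))) (ε x) k
  have hη : ∀ V : X.Opens, (V : Set X).Nonempty → genericPoint X ∈ V := fun V hV =>
    (genericPoint_spec X).mem_open_set_iff V.2 |>.2 (by simpa using hV)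
  have ht : ∀ x, rs (tw O M k) (inf_le_right : U ⊓ W x ≤ W x) (t x) =
      it (secOf s) (U ⊓ W x) (rs O (inf_le_left : U ⊓ W x ≤ U) (show Γ(O, U) from f)) k := fun x => by
    rw [rs_smul, fr_one_rs, hb x]
    exact (it_eq s (coeff_rs s (inf_le_right : U ⊓ W x ≤ W x) (ha x)) _ k).symm
  have hcompat : TopCat.Presheaf.IsCompatible (X := X.toTopCat) (tw O M k).presheaf W t := fun x y => by
    show rs (tw O M k) (inf_le_left : W x ⊓ W y ≤ W x) (t x) = rs (tw O M k) (inf_le_right : W x ⊓ W y ≤ W y) (t y)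
    have hF := isFrame_fr (isFrame_one (W x ⊓ W y)) ((hε x).mono (inf_le_left : W x ⊓ W y ≤ W x)) k
    obtain ⟨p, hp⟩ := hF.exists_coeff le_rfl (rs (tw O M k) (inf_le_left : W x ⊓ W y ≤ W x) (t x))
    obtain ⟨q, hq⟩ := hF.exists_coeff le_rfl (rs (tw O M k) (inf_le_right : W x ⊓ W y ≤ W y) (t y))
    rw [rs_self] at hp hq
    rw [← hp, ← hq]
    haveI : Nonempty (U ⊓ (W x ⊓ W y) : X.Opens) := ⟨⟨genericPoint X,
      hη _ hU, hη _ ⟨x, hxW x⟩, hη _ ⟨y, hxW y⟩⟩⟩
    have hpq : ro (inf_le_right : U ⊓ (W x ⊓ W y) ≤ W x ⊓ W y) p = ro inf_le_right q := by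
      refine hF.inj inf_le_right ?_
      rw [← rs_smul, ← rs_smul, hp, hq, rs_rs, rs_rs]
      have e1 := congrArg (rs (tw O M k) (le_inf inf_le_left (inf_le_right.trans inf_le_left) :
        U ⊓ (W x ⊓ W y) ≤ U ⊓ W x)) (ht x)
      have e2 := congrArg (rs (tw O M k) (le_inf inf_le_left (inf_le_right.trans inf_le_right) :
        U ⊓ (W x ⊓ W y) ≤ U ⊓ W y)) (ht y)
      rw [rs_rs, it_rs, rs_rs] at e1 e2
      rw [e1, e2]
    rw [map_injective_of_isIntegral X (homOfLE (inf_le_right : U ⊓ (W x ⊓ W y) ≤ W x ⊓ W y)) hpq]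
  let OM : TopCat.Sheaf Ab.{u} X.toTopCat := ⟨(tw O M k).presheaf, (tw O M k).isSheaf⟩
  obtain ⟨g, hg, -⟩ := TopCat.Sheaf.existsUnique_gluing' OM W ⊤ (fun x => homOfLE le_top)
    (fun x _ => Opens.mem_iSup.2 ⟨x, hxW x⟩) t hcompat
  refine ⟨g, OM.eq_of_locally_eq' (fun x => U ⊓ W x) U (fun x => homOfLE inf_le_left)
    (fun x hx => Opens.mem_iSup.2 ⟨x, hx, hxW x⟩) _ _ fun x => ?_⟩
  show rs (tw O M k) inf_le_left (rs (tw O M k) le_top g) = rs (tw O M k) inf_le_left (it (secOf s) U _ k)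
  rw [rs_rs, it_rs, ← ht x, show t x = rs (tw O M k) (le_top : W x ≤ ⊤) g from (hg x).symm, rs_rs]

variable (K : Type u) [Field K] [X.Over (Spec (CommRingCat.of K))] [IsProper (X ↘ Spec (CommRingCat.of K))]

include hM in
theorem card_le_h0 (hU : (U : Set X).Nonempty) {ι : Type} [Fintype ι] (v : ι → Γ(X, U)) {k : ℕ}
    (hv : ∀ i, Loc s (v i) k)
    (hli : letI : Algebra K Γ(X, U) := (Groth.L22.SchemeDim.sectHom K X U).toAlgebra; LinearIndependent K v) :
    Fintype.card ι ≤ Groth.L22.Big.h0 K (CohB1.tensorPow M k) := by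
  letI : Algebra K Γ(X, U) := (Groth.L22.SchemeDim.sectHom K X U).toAlgebra
  rw [← tw_unit M k]
  have hε : IsFrame M U (rs M le_top (secOf s)) := isFrame_genLocus s
  have hΦ := isFrame_fr (isFrame_one (X := X) U) hε k
  choose c hc using fun t : Γ(tw O M k, ⊤) => hΦ.exists_coeff le_rfl (rs (tw O M k) le_top t)
  simp only [rs_self] at hc
  let φ : Coh.HH X (tw O M k) 0 →ₗ[K] Γ(X, U) :=
    { toFun := fun z => c (Groth.L21.RR.e0 _ z)
      map_add' := fun y z => hΦ.inj le_rfl (by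
        rw [rs_self, add_smul, hc, hc, hc, map_add]
        exact map_add _ _ _)
      map_smul' := fun r z => hΦ.inj le_rfl (by
        rw [rs_self, hc, RingHom.id_apply, Algebra.smul_def, mul_smul, hc, Groth.L21.RR.e0_smul, rs_smul]
        rfl) }
  choose t ht using fun i => exists_section_of_loc s hM hU (hv i)
  have hφ : φ ∘ (fun i => (Groth.L21.RR.e0 _).symm (t i)) = v := by
    funext i
    show c (Groth.L21.RR.e0 _ ((Groth.L21.RR.e0 _).symm (t i))) = v i
    rw [AddEquiv.apply_symm_apply]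
    refine hΦ.inj le_rfl ?_
    rw [rs_self, hc, ht i, it_eq s (one_smul (Γ(X, U)) _) (v i) k, one_pow, mul_one]
  have hli' : LinearIndependent K (fun i => (Groth.L21.RR.e0 (tw O M k)).symm (t i)) :=
    LinearIndependent.of_comp φ (hφ ▸ hli)
  haveI : Module.Finite K (Coh.HH X (tw O M k) 0) := Groth.L16.ProperFinite.finite_HH K
    (Groth.L18.Ample.isCoh_of_isInvertible (tw_unit M k ▸ Groth.L18.Ample.isInvertible_tensorPow hM k)) 0
  rw [Groth.L22.Big.h0_def]
  exact hli'.fintype_card_le_finrank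

include hM in
/-- Quadratic growth of sections, the nonvanishing locus being an affine surface. -/
theorem exists_sq_le_h0 (hU : (U : Set X).Nonempty) (hUa : IsAffineOpen U)
    (hdim : topologicalKrullDim X = (2 : ℕ)) :
    ∃ D : ℕ, 0 < D ∧ ∀ n : ℕ, (n + 1) ^ 2 ≤ Groth.L22.Big.h0 K (CohB1.tensorPow M (D * n)) := by
  letI : Algebra K Γ(X, U) := (Groth.L22.SchemeDim.sectHom K X U).toAlgebra
  haveI : Algebra.FiniteType K Γ(X, U) :=
    RingHom.finiteType_algebraMap.1 (Groth.L22.SchemeDim.finiteType_sectHom K X hUa)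
  haveI : Nonempty U := hU.to_subtype
  obtain ⟨d, g, hg, -, hd, -⟩ := Groth.L22.AffineDim.exists_normalization K Γ(X, U)
  obtain ⟨m, hm, -, hopen⟩ := Groth.L22.SchemeDim.exists_dim_eq_trdeg K X
  have hd2 : d = 2 := by
    have h1 : topologicalKrullDim (U : Set X) = ((2 : ℕ) : WithBot ℕ∞) := by
      rw [hdim] at hm
      rw [show topologicalKrullDim (U : Set X) = _ from hopen U hU, ← hm]
    rw [Groth.L22.SchemeDim.topologicalKrullDim_affineOpen hUa, hd] at h1
    exact_mod_cast h1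
  subst hd2
  obtain ⟨i, hi⟩ := exists_loc s hM (g (MvPolynomial.X 0))
  obtain ⟨j, hj⟩ := exists_loc s hM (g (MvPolynomial.X 1))
  refine ⟨i + j + 1, Nat.succ_pos _, fun n => ?_⟩
  let e : Fin (n + 1) × Fin (n + 1) → (Fin 2 →₀ ℕ) :=
    fun p => Finsupp.single 0 (p.1 : ℕ) + Finsupp.single 1 (p.2 : ℕ)
  have he : Function.Injective e := fun p q h => by
    have h0 := DFunLike.congr_fun h 0
    have h1 := DFunLike.congr_fun h 1
    simp [e] at h0 h1
    exact Prod.ext (Fin.ext h0) (Fin.ext h1)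
  have hmon : ∀ p, g (MvPolynomial.monomial (e p) 1) =
      g (MvPolynomial.X 0) ^ (p.1 : ℕ) * g (MvPolynomial.X 1) ^ (p.2 : ℕ) := fun p => by
    rw [← map_pow, ← map_pow, ← map_mul, MvPolynomial.X_pow_eq_monomial, MvPolynomial.X_pow_eq_monomial,
      MvPolynomial.monomial_mul, one_mul]
  have hli : LinearIndependent K fun p => g (MvPolynomial.monomial (e p) 1) := by
    have h1 := ((MvPolynomial.basisMonomials (Fin 2) K).linearIndependent.comp e he).map' g.toLinearMap
      (LinearMap.ker_eq_bot.2 hg)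
    simpa [Function.comp_def, MvPolynomial.coe_basisMonomials] using h1
  have := card_le_h0 s hM K hU (fun p => g (MvPolynomial.monomial (e p) 1)) (k := (i + j + 1) * n) (fun p => by
    rw [hmon]
    refine ((hi.pow s _).mul s (hj.pow s _)).mono s ?_
    have h1 : (p.1 : ℕ) ≤ n := by omega
    have h2 : (p.2 : ℕ) ≤ n := by omega
    calc i * (p.1 : ℕ) + j * (p.2 : ℕ) ≤ i * n + j * n :=
          Nat.add_le_add (Nat.mul_le_mul_left _ h1) (Nat.mul_le_mul_left _ h2)
      _ ≤ (i + j + 1) * n := by rw [Nat.add_mul, Nat.add_mul]; omega) hli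
  simpa [sq] using this

end Groth.L03.SurfAmple
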