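import Groth.Agent.L03.SurfAmple.Canonical
import Groth.Agent.L03.SurfNum.Gram

/-!
# Intersection numbers of products of effective Cartier divisors
-/

set_option autoImplicit false
set_option backward.isDefEq.respectTransparency false

universe u

open CategoryTheory AlgebraicGeometry TopologicalSpace

noncomputable section

namespace Groth.L03.SurfAmple

open Groth.L22.Inter Groth.L22.Big Groth.L03.SurfNum

variable (k : Type u) [Field k] {X : Scheme.{u}} [X.Over (Spec (CommRingCat.of k))]
  [IsProper (X ↘ Spec (CommRingCat.of k))] [IsIntegral X]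

theorem ii_ideal_mul (hd : topologicalKrullDim X ≤ (2 : ℕ)) {I J : X.IdealSheafData}
    (hI : BlowUp.IsEffCartierIdeal I) (hJ : BlowUp.IsEffCartierIdeal J) {A : X.Modules} (hA : PicF.IsInvertible A) :
    ii k (ClSub.idealMod (I * J)) A = ii k (ClSub.idealMod I) A + ii k (ClSub.idealMod J) A := by
  obtain ⟨L, M, s, t, hL, hM, hs, ht, hη, hη', hprod⟩ := exists_section_mul hI hJ
  have hP := Groth.L18.GenLoc.isInvertible_tensor hL hM
  have hηP : genericPoint X ∈ CohB1.genLocus _ (Groth.L18.GenLoc.tensHom s t) := by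
    rw [Groth.L18.GenLoc.genLocus_tensHom hL hM]; exact ⟨hη, hη'⟩
  have hinv : ∀ {Z : X.IdealSheafData}, BlowUp.IsEffCartierIdeal Z → PicF.IsInvertible (ClSub.idealMod Z) :=
    fun h => (Groth.Agent.L19.IdealInvertible.isEffCartier_iff _).2 h
  have e1 := Gram.ii_inverse k hd (hinv hI) hL hA (hs ▸ nonempty_tensor_zeroScheme hL s hη).some
  have e2 := Gram.ii_inverse k hd (hinv hJ) hM hA (ht ▸ nonempty_tensor_zeroScheme hM t hη').some
  have hIJ : BlowUp.IsEffCartierIdeal (I * J) := hprod ▸ isEffCartierIdeal_zeroScheme hP _ hηP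
  have e3 := Gram.ii_inverse k hd (hinv hIJ) hP hA (hprod ▸ nonempty_tensor_zeroScheme hP _ hηP).some
  rw [ii_tensor k hd hL hM hA] at e3
  linarith

/-- A nonempty effective divisor has positive degree. -/
theorem ii_ideal_ample_neg (hd2 : topologicalKrullDim X = (2 : ℕ)) {I : X.IdealSheafData}
    (hI : BlowUp.IsEffCartierIdeal I) (hne : I ≠ ⊤) {H : X.Modules} (hH : CohB1.IsAmple H) :
    ii k (ClSub.idealMod I) H < 0 := by
  haveI := Groth.L21.RR.isNoetherian_of_proper (X := X) k
  obtain ⟨N, σ, hN, hzero⟩ := exists_canonical_section I hI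
  have hη : genericPoint X ∈ CohB1.genLocus N σ := by
    by_contra h
    exact genericPoint_mem_of_isEffCartier hI (hzero ▸ (Groth.L22.ZeroScheme.support_zeroScheme hN σ).ge h)
  have hσ : σ ≠ 0 := by
    intro h0
    have hb := bijective_stalk_section σ hη
    rw [h0, Functor.map_zero] at hb
    exact (Groth.L16.CohSupport.len_eq_zero_iff (genericPoint X) (Coh.structureModule X)).not.1
      (by rw [Groth.L22.Nakai.len_structure']; exact one_ne_zero) fun hsub => hsub ⟨fun a b => hb.1 rfl⟩
  obtain ⟨x, hx⟩ : (I.support : Set X).Nonempty := by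
    by_contra h
    refine hne ?_
    rw [← Scheme.IdealSheafData.support_eq_bot_iff]
    exact TopologicalSpace.Closeds.ext (Set.not_nonempty_iff_eq_empty.1 h)
  have hxg : x ∉ CohB1.genLocus N σ :=
    (Groth.L22.ZeroScheme.support_zeroScheme hN σ).le (hzero.symm ▸ hx)
  have hempty : IsEmpty (Coh.structureModule X ≅ N) := ⟨fun i => by
    have hg : CohB1.genLocus (Coh.structureModule X) (σ ≫ i.symm.hom) = CohB1.genLocus N σ :=
      Groth.L16.genLocus_comp_iso σ i.symm
    rw [Groth.L16.genLocus_endo] at hg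
    have hne : (show Γ(X, ⊤) from (σ ≫ i.symm.hom).app ⊤ (1 : Γ(X, ⊤))) ≠ 0 := fun h0 => by
      rw [h0, Scheme.basicOpen_zero] at hg
      exact (hg ▸ hη : genericPoint X ∈ (⊥ : X.Opens))
    obtain ⟨c, hc⟩ := (AlgebraicGeometry.isField_of_universallyClosed (K := k) (X ↘ Spec (CommRingCat.of k))).mul_inv_cancel hne
    rw [X.basicOpen_of_isUnit (IsUnit.of_mul_eq_one _ hc)] at hg
    exact hxg (hg ▸ trivial)⟩
  have h1 := ii_effective_pos k hd2.le hd2 hN hH σ hσ hempty
  rw [Gram.ii_inverse k hd2.le ((Groth.Agent.L19.IdealInvertible.isEffCartier_iff _).2 hI) hN hH.1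
    (hzero ▸ nonempty_tensor_zeroScheme hN σ hη).some] at h1
  linarith

end Groth.L03.SurfAmple
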