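import Groth.Agent.L03.SurfNum.Gram

/-!
# The index inequality on a combination orthogonal to an ample module
-/

set_option autoImplicit false
set_option backward.isDefEq.respectTransparency false

universe u

open CategoryTheory AlgebraicGeometry

noncomputable section

namespace Groth.L03.SurfAmple

open Groth.L22.Inter Groth.L22.Big Groth.L03.SurfNum

variable (k : Type u) [Field k] {X : Scheme.{u}} [X.Over (Spec (CommRingCat.of k))]
  [IsProper (X ↘ Spec (CommRingCat.of k))] [IsIntegral X]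

theorem hodge_comb (hd : topologicalKrullDim X ≤ (2 : ℕ)) {P Q H : X.Modules} (hP : PicF.IsInvertible P)
    (hQ : PicF.IsInvertible Q) (hH : CohB1.IsAmple H) (a b : ℤ)
    (h : (a : ℚ) * ii k P H + b * ii k Q H = 0) :
    (a : ℚ) ^ 2 * ii k P P + 2 * a * b * ii k P Q + (b : ℚ) ^ 2 * ii k Q Q ≤ 0 := by
  have zp : ∀ (P : X.Modules), PicF.IsInvertible P → ∀ a : ℤ, ∃ Z : X.Modules, PicF.IsInvertible Z ∧
      ∀ C : X.Modules, PicF.IsInvertible C → ii k Z C = a * ii k P C := by
    intro P hP a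
    obtain ⟨P', hP', ⟨ι⟩⟩ := Groth.L08.Cube.exists_inverse hP
    rcases a.eq_nat_or_neg with ⟨n, rfl | rfl⟩
    · exact ⟨_, Groth.L18.Ample.isInvertible_tensorPow hP n, fun C hC => by rw [ii_pow k hd hP hC]; push_cast; rfl⟩
    · refine ⟨_, Groth.L18.Ample.isInvertible_tensorPow hP' n, fun C hC => ?_⟩
      rw [ii_pow k hd hP' hC, Gram.ii_inverse k hd hP hP' hC ι]
      push_cast
      ring
  obtain ⟨Z, hZ, hZi⟩ := zp P hP a
  obtain ⟨W, hW, hWi⟩ := zp Q hQ b
  have hN := Groth.L18.GenLoc.isInvertible_tensor hZ hW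
  have horth : ii k (CohB1.tensorMod Z W) H = 0 := by
    rw [ii_tensor k hd hZ hW hH.1, hZi H hH.1, hWi H hH.1]; exact h
  have h2 := ii_nonpos_of_orth k hd hN hH horth
  rw [ii_tensor k hd hZ hW hN, hZi _ hN, hWi _ hN, ii_tensor_right k hd hP hZ hW,
    ii_tensor_right k hd hQ hZ hW, ii_comm k P Z, ii_comm k P W, ii_comm k Q Z, ii_comm k Q W,
    hZi _ hP, hZi _ hQ, hWi _ hP, hWi _ hQ, ii_comm k Q P] at h2
  linarith

end Groth.L03.SurfAmple
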