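import Groth.Agent.L03.SurfAmple.Zero
import Groth.Agent.L22.PicGlue.Cocycle

/-!
# Canonical sections of effective Cartier divisors and their products
-/

set_option autoImplicit false
set_option linter.style.haveILetI false
set_option backward.isDefEq.respectTransparency false

universe u

open CategoryTheory AlgebraicGeometry TopologicalSpace Opposite

noncomputable section

namespace Groth.L03.SurfAmple

open Groth.L18.Frame (rs ro rs_rs rs_self rs_smul ro_ro ro_self ro_mul IsFrame)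
open Groth.L18.GenLoc (secOf secOf_homOfSection tens tens_rs tens_smul_left tens_smul_right isFrame_tens)

variable {X : Scheme.{u}} [IsIntegral X]

/-- An effective Cartier divisor is the zero scheme of a section of an invertible module. -/
theorem exists_canonical_section (I : X.IdealSheafData) (hI : BlowUp.IsEffCartierIdeal I) :
    ∃ (N : X.Modules) (s : Coh.structureModule X ⟶ N), PicF.IsInvertible N ∧ PicF2.zeroScheme N s = I := by
  have hL := (Groth.Agent.L19.IdealInvertible.isEffCartier_iff I).2 hI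
  set L := ClSub.idealMod I
  have hcov : ∀ x : X, ∃ (V : X.Opens) (e : Γ(L, V)), x ∈ V ∧ IsAffineOpen V ∧ IsFrame L V e := by
    intro x
    obtain ⟨W, e, hxW, he⟩ := Groth.L18.Frame.exists_frame hL x
    obtain ⟨V, hV, hxV, hVW⟩ := exists_isAffineOpen_mem_and_subset (x := x) (U := W) hxW
    exact ⟨V, rs L hVW e, hxV, hV, he.mono hVW⟩
  choose W e hW hWa he using hcov
  let io : ∀ V : X.Opens, Γ(L, V) → Γ(X, V) := fun V m => show Γ(X, V) from (ClSub.idealModι I).app V m
  have io_smul : ∀ (V : X.Opens) (a : Γ(X, V)) (m : Γ(L, V)), io V (a • m) = a * io V m := fun V a m =>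
    Groth.Agent.L19.IdealInvertible.io_smul I a m
  have io_rs : ∀ (V V' : X.Opens) (h : V' ≤ V) (m : Γ(L, V)), io V' (rs L h m) = ro h (io V m) :=
    fun V V' h m => Groth.Agent.L19.IdealInvertible.io_rs I h m
  choose c hc using fun i j : X =>
    ((he i).mono (inf_le_left : W i ⊓ W j ≤ W i)).exists_coeff le_rfl (rs L inf_le_right (e j))
  simp only [rs_self] at hc
  have hcV : ∀ (i j : X) (V : X.Opens) (hi : V ≤ W i) (hj : V ≤ W j),
      ro (le_inf hi hj) (c i j) • rs L hi (e i) = rs L hj (e j) := by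
    intro i j V hi hj
    have := congrArg (rs L (le_inf hi hj)) (hc i j)
    rwa [rs_smul, rs_rs, rs_rs] at this
  have hmul : ∀ (i j k : X) (V : X.Opens) (hi : V ≤ W i) (hj : V ≤ W j) (hk : V ≤ W k),
      ro (le_inf hj hk) (c j k) * ro (le_inf hi hj) (c i j) = ro (le_inf hi hk) (c i k) := by
    intro i j k V hi hj hk
    refine (he i).inj hi ?_
    rw [mul_smul, hcV i j V hi hj, hcV j k V hj hk, hcV i k V hi hk]
  have hone : ∀ (i : X) (V : X.Opens) (hi : V ≤ W i) (h : V ≤ W i ⊓ W i), ro h (c i i) = 1 := by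
    intro i V hi h
    refine (he i).inj hi ?_
    rw [hcV i i V hi hi, one_smul]
  let C : Groth.L22.PicGlue.Cocycle X :=
    { ι := X
      N := W
      g := fun i j => ro (le_inf inf_le_right inf_le_left : W i ⊓ W j ≤ W j ⊓ W i) (c j i)
      one := fun i => hone i _ inf_le_left _
      comp := fun i j k => by
        show ro _ (ro _ (c j i)) * ro _ (ro _ (c k j)) = ro _ (ro _ (c k i))
        rw [ro_ro, ro_ro, ro_ro]
        exact hmul k j i _ inf_le_right (inf_le_left.trans inf_le_right) (inf_le_left.trans inf_le_left) }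
  let N := Groth.L22.PicGlue.glueMod C
  let d : ∀ i : X, Γ(N, W i) := fun i => Groth.L22.PicGlue.gen C i
  have hd : ∀ i, IsFrame N (W i) (d i) := fun i V h => Groth.L22.PicGlue.isGen_gen C i V h
  let f : ∀ i : X, Γ(X, W i) := fun i => io (W i) (e i)
  have hT : ∀ i j : X, rs N (inf_le_left : W i ⊓ W j ≤ W i) (f i • d i) =
      rs N (inf_le_right : W i ⊓ W j ≤ W j) (f j • d j) := by
    intro i j
    have hdd : rs N (inf_le_right : W i ⊓ W j ≤ W j) (d j) =
        ro (le_inf inf_le_right inf_le_left : W i ⊓ W j ≤ W j ⊓ W i) (c j i) • rs N inf_le_left (d i) :=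
      Groth.L22.PicGlue.gen_trans C i j
    rw [rs_smul, rs_smul, hdd, smul_smul]
    congr 1
    rw [← io_rs, ← io_rs, mul_comm, ← io_smul]
    congr 1
    exact (hcV j i _ inf_le_right inf_le_left).symm
  let ON : TopCat.Sheaf Ab.{u} X.toTopCat := ⟨N.presheaf, N.isSheaf⟩
  obtain ⟨σ, hσ, -⟩ := ON.existsUnique_gluing' W ⊤ (fun i => homOfLE le_top)
    (fun x _ => Opens.mem_iSup.2 ⟨x, hW x⟩) (fun i => f i • d i) fun i j => hT i j
  have hN : PicF.IsInvertible N := Groth.L22.PicGlue.isInvertible_glueMod C (fun x => ⟨x, hW x⟩)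
  refine ⟨N, Groth.L16.homOfSection N σ, hN, Scheme.IdealSheafData.ext_of_iSup_eq_top (fun i => ⟨W i, hWa i⟩)
    (eq_top_iff.2 fun x _ => Opens.mem_iSup.2 ⟨x, hW x⟩) fun i => ?_⟩
  rw [zeroScheme_ideal_span hN (Groth.L16.homOfSection N σ) (V := ⟨W i, hWa i⟩) (hd i) (c := f i)
    (by rw [secOf_homOfSection]; exact (hσ i).symm)]
  ext a
  rw [Groth.L18.IdealModule.mem_ideal_iff I (hWa i), Ideal.mem_span_singleton']
  constructor
  · rintro ⟨b, rfl⟩
    exact ⟨b • e i, io_smul _ b (e i)⟩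
  · rintro ⟨m, rfl⟩
    obtain ⟨b, hb⟩ := (he i).exists_coeff le_rfl m
    rw [rs_self] at hb
    exact ⟨b, by rw [← io_smul, hb]⟩

theorem genericPoint_mem_of_isEffCartier {I : X.IdealSheafData} (hI : BlowUp.IsEffCartierIdeal I) :
    genericPoint X ∉ (I.support : Set X) := by
  intro hηF
  obtain ⟨U, hxU, f, hf, hIU⟩ := hI (genericPoint X)
  have h1 : genericPoint X ∈ X.zeroLocus (U := U.1) (I.ideal U) :=
    (Scheme.IdealSheafData.mem_support_iff_of_mem (I := I) (U := U) hxU).1 hηF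
  rw [hIU, Scheme.zeroLocus_span, Scheme.zeroLocus_singleton] at h1
  have h2 : (X.basicOpen f : Set X) = ∅ := Set.eq_empty_iff_forall_notMem.2 fun y hy =>
    h1 (((genericPoint_spec X).specializes trivial).mem_open (X.basicOpen f).2 hy)
  have hf0 : f = 0 := (basicOpen_eq_bot_iff f).1 (TopologicalSpace.Opens.ext h2)
  haveI : Nonempty U.1 := ⟨⟨_, hxU⟩⟩
  exact one_ne_zero ((mem_nonZeroDivisors_iff_right.1 (hf0 ▸ hf)) 1 (mul_zero 1))

theorem tensHom_coeff {L M : X.Modules} (s : Coh.structureModule X ⟶ L) (t : Coh.structureModule X ⟶ M) {W : X.Opens}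
    {e : Γ(L, W)} {d : Γ(M, W)} {a b : Γ(X, W)} (ha : a • e = rs L le_top (secOf s))
    (hb : b • d = rs M le_top (secOf t)) :
    (a * b) • tens L M W e d = rs (CohB1.tensorMod L M) le_top (secOf (Groth.L18.GenLoc.tensHom s t)) := by
  unfold Groth.L18.GenLoc.tensHom
  rw [secOf_homOfSection, tens_rs, ← ha, ← hb, tens_smul_left, tens_smul_right, smul_smul]

/-- Products of effective Cartier divisors: the modules multiply. -/
theorem exists_section_mul {I J : X.IdealSheafData} (hI : BlowUp.IsEffCartierIdeal I)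
    (hJ : BlowUp.IsEffCartierIdeal J) :
    ∃ (L M : X.Modules) (s : Coh.structureModule X ⟶ L) (t : Coh.structureModule X ⟶ M),
      PicF.IsInvertible L ∧ PicF.IsInvertible M ∧ PicF2.zeroScheme L s = I ∧ PicF2.zeroScheme M t = J ∧
      genericPoint X ∈ CohB1.genLocus L s ∧ genericPoint X ∈ CohB1.genLocus M t ∧
      PicF2.zeroScheme (CohB1.tensorMod L M) (Groth.L18.GenLoc.tensHom s t) = I * J := by
  obtain ⟨L, s, hL, hs⟩ := exists_canonical_section I hI
  obtain ⟨M, t, hM, ht⟩ := exists_canonical_section J hJ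
  have hη : genericPoint X ∈ CohB1.genLocus L s := by
    by_contra h
    exact genericPoint_mem_of_isEffCartier hI (hs ▸ (Groth.L22.ZeroScheme.support_zeroScheme hL s).ge h)
  have hη' : genericPoint X ∈ CohB1.genLocus M t := by
    by_contra h
    exact genericPoint_mem_of_isEffCartier hJ (ht ▸ (Groth.L22.ZeroScheme.support_zeroScheme hM t).ge h)
  refine ⟨L, M, s, t, hL, hM, hs, ht, hη, hη', ?_⟩
  have hcov : ∀ x : X, ∃ (W : X.Opens) (e : Γ(L, W)) (e' : Γ(M, W)),
      IsAffineOpen W ∧ x ∈ W ∧ IsFrame L W e ∧ IsFrame M W e' := by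
    intro x
    obtain ⟨W₁, d, h₁, hd⟩ := Groth.L18.Frame.exists_frame hL x
    obtain ⟨W₂, d', h₂, hd'⟩ := Groth.L18.Frame.exists_frame hM x
    obtain ⟨W, hW, hxW, hWle⟩ := exists_isAffineOpen_mem_and_subset (x := x) (U := W₁ ⊓ W₂) ⟨h₁, h₂⟩
    exact ⟨W, rs L (fun y hy => (hWle hy).1) d, rs M (fun y hy => (hWle hy).2) d', hW, hxW, hd.mono _, hd'.mono _⟩
  choose W e e' hW hxW he he' using hcov
  refine Scheme.IdealSheafData.ext_of_iSup_eq_top (fun i => ⟨W i, hW i⟩)
    (eq_top_iff.2 fun x _ => Opens.mem_iSup.2 ⟨x, hxW x⟩) fun i => ?_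
  obtain ⟨a, ha⟩ := (he i).exists_coeff le_rfl (rs L le_top (secOf s))
  obtain ⟨b, hb⟩ := (he' i).exists_coeff le_rfl (rs M le_top (secOf t))
  rw [rs_self] at ha hb
  rw [zeroScheme_ideal_span (Groth.L18.GenLoc.isInvertible_tensor hL hM) _ (V := ⟨W i, hW i⟩)
    (isFrame_tens (he i) (he' i)) (tensHom_coeff s t ha hb), Scheme.IdealSheafData.ideal_mul, Pi.mul_apply,
    ← hs, ← ht, zeroScheme_ideal_span hL s (V := ⟨W i, hW i⟩) (he i) ha,
    zeroScheme_ideal_span hM t (V := ⟨W i, hW i⟩) (he' i) hb, Ideal.span_singleton_mul_span_singleton]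

end Groth.L03.SurfAmple
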