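import Groth.Agent.L03.SurfAmple.Config
import Groth.Agent.L03.SurfAmple.Graph
import Groth.Agent.L03.SurfAmple.Growth
import Groth.Agent.L22.Nakai.Main

/-!
# A regular proper surface is projective
-/

set_option autoImplicit false
set_option backward.isDefEq.respectTransparency false
set_option linter.style.haveILetI false
set_option linter.unusedSectionVars false

universe u

open CategoryTheory CategoryTheory.Limits AlgebraicGeometry TopologicalSpace

noncomputable section

namespace Groth.L03.SurfAmple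

open Groth.L22.Inter Groth.L22.Nef Groth.L22.Big Groth.L03.Euler Groth.L03.SurfNum
open Groth.L18.GenLoc (tensHom genLocus_tensHom)
open Groth.L18.Ample (pw genLocus_pw_succ isInvertible_tensorPow isInvertible_structureModule)

variable (k : Type u) [Field k] {X : Scheme.{u}} [X.Over (Spec (CommRingCat.of k))]
  [IsProper (X ↘ Spec (CommRingCat.of k))] [IsIntegral X]

include k in
/-- The ample module of a divisor supported on the complement of an affine open. -/
theorem exists_ample_section (hdim : topologicalKrullDim X = (2 : ℕ))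
    (hreg : ∀ x : X, IsRegularLocalRing (X.presheaf.stalk x)) (U : X.Opens) (hUa : IsAffineOpen U)
    (hU : (U : Set X).Nonempty) :
    ∃ (L : X.Modules) (s : Coh.structureModule X ⟶ L), CohB1.IsAmple L ∧ CohB1.genLocus L s = U := by
  classical
  haveI := Groth.L21.RR.isNoetherian_of_proper (X := X) k
  have hd := hdim.le
  obtain ⟨S, hS, hcov, hd1⟩ := exists_curves k hdim U hUa hU
  have hη : genericPoint X ∈ U := ((genericPoint_spec X).mem_open_set_iff U.2).2 (by simpa using hU)
  have hne : S.Nonempty := by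
    have huniv : topologicalKrullDim (closure ({genericPoint X} : Set X)) = (2 : ℕ) := by
      rw [genericPoint_closure, IsHomeomorph.topologicalKrullDim_eq _ (Homeomorph.Set.univ X).isHomeomorph, hdim]
    by_contra he
    have hsub : closure ({genericPoint X} : Set X) ⊆ U := fun z _ => by
      by_contra hz
      obtain ⟨y, hy, -⟩ := hcov z hz
      exact he ⟨y, hy⟩
    have := huniv.symm.trans_le (dim_closure_le_zero k hUa hsub)
    have : (2 : ℕ) ≤ 0 := by exact_mod_cast this
    omega
  have hinv : ∀ y : S, PicF.IsInvertible (ClSub.idealMod (pt y.1)) := fun y =>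
    haveI := isIntegral_pt y.1
    isInvertible_idealMod k hdim hreg (pt y.1)
      (by rw [Groth.L18.support_vanishingIdeal]; exact ((hS _).1 y.2).2.trans Nat.cast_one)
  choose N σ hN hiso hloc using fun y : S =>
    Groth.L08.Cube.exists_section_of_effCartier (pt y.1) ((Groth.Agent.L19.IdealInvertible.isEffCartier_iff _).1 (hinv y))
  have hgl : ∀ (y : S) (x : X), x ∈ CohB1.genLocus (N y) (σ y) ↔ x ∉ closure ({y.1} : Set X) := fun y x => by
    show x ∈ (CohB1.genLocus (N y) (σ y) : Set X) ↔ _
    rw [hloc y, Groth.L18.support_vanishingIdeal]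
    exact Iff.rfl
  have hdeg : ∀ (L : X.Modules), PicF.IsInvertible L → ∀ y : S,
      altT k (fun _ : Fin 1 => L) (ClSub.quotMod (pt y.1)) = ii k (N y) L := fun L hL y => by
    rw [altT_quotMod_eq k hL _ (hinv y), Gram.ii_inverse k hd (hinv y) (hN y) hL (hiso y).some]
  -- the intersection matrix
  let G : S → S → ℚ := fun y z => ii k (N y) (N z)
  have hoff : ∀ y z : S, y ≠ z → y.1 ∈ CohB1.genLocus (N z) (σ z) := fun y z hyz => by
    rw [hgl]
    intro hy
    exact hyz (Subtype.ext (eq_of_specializes_top isClosed_closure ((hS _).1 z.2).2.le ((hS _).1 y.2).2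
      (subset_closure rfl) (specializes_iff_mem_closure.2 hy)).symm)
  have hG0 : ∀ y z : S, y ≠ z → 0 ≤ G y z := fun y z hyz => by
    show 0 ≤ ii k (N y) (N z)
    rw [← hdeg (N z) (hN z) y]
    exact altT_pt_nonneg k hd (hN z) (σ z) (hoff y z hyz) ((hS _).1 y.2).2
  have hGpos : ∀ y z : S, y ≠ z → ∀ x, x ∈ closure ({y.1} : Set X) → x ∈ closure ({z.1} : Set X) → 0 < G y z :=
    fun y z hyz x hxy hxz => by
      show 0 < ii k (N y) (N z)
      rw [← hdeg (N z) (hN z) y]
      exact altT_pt_pos k hdim (hN z) (σ z) ((hS _).1 y.2).2 (hoff y z hyz) hxy fun h => (hgl z x).1 h hxz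
  -- connectedness
  have hconn : Graph.Conn G (Finset.univ : Finset S) := by
    intro T _ hTne hT
    have hC := Groth.Agent.S7821.result k (X ↘ Spec (CommRingCat.of k)) (hdim.trans Nat.cast_ofNat) ⟨U, hUa⟩ hU
    let A : Set X := ⋃ y ∈ T, closure ({(y : S).1} : Set X)
    let A' : Set X := ⋃ y ∈ (Finset.univ \ T : Finset S), closure ({(y : S).1} : Set X)
    have hAc : IsClosed A := T.finite_toSet.isClosed_biUnion fun _ _ => isClosed_closure
    have hA'c : IsClosed A' := (Finset.univ \ T).finite_toSet.isClosed_biUnion fun _ _ => isClosed_closure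
    obtain ⟨x, hxU, hxA, hxA'⟩ := isPreconnected_closed_iff.1 hC.isPreconnected A A' hAc hA'c
      (fun x hx => by
        obtain ⟨y, hy, hxy⟩ := hcov x hx
        by_cases hyT : (⟨y, hy⟩ : S) ∈ T
        · exact Or.inl (Set.mem_iUnion₂.2 ⟨⟨y, hy⟩, hyT, hxy⟩)
        · exact Or.inr (Set.mem_iUnion₂.2 ⟨⟨y, hy⟩, Finset.mem_sdiff.2 ⟨Finset.mem_univ _, hyT⟩, hxy⟩))
      (by
        obtain ⟨y, hy⟩ := hTne
        exact ⟨y.1, ((hS _).1 y.2).1, Set.mem_iUnion₂.2 ⟨y, hy, subset_closure rfl⟩⟩)
      (by
        obtain ⟨y, hy⟩ : (Finset.univ \ T).Nonempty :=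
          Finset.sdiff_nonempty.2 fun h => hT (subset_antisymm (Finset.subset_univ _) h)
        exact ⟨y.1, ((hS _).1 y.2).1, Set.mem_iUnion₂.2 ⟨y, hy, subset_closure rfl⟩⟩)
    obtain ⟨z, hz, hxz⟩ := Set.mem_iUnion₂.1 hxA
    obtain ⟨y, hy, hxy⟩ := Set.mem_iUnion₂.1 hxA'
    have hyT : y ∉ T := (Finset.mem_sdiff.1 hy).2
    exact ⟨y, Finset.mem_univ _, hyT, z, hz, hGpos y z (fun e => hyT (e ▸ hz)) x hxy hxz⟩
  -- the divisor with given positive coefficients
  have build : ∀ a : S → ℕ, (∀ y, 0 < a y) → ∃ (L : X.Modules) (s : Coh.structureModule X ⟶ L),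
      PicF.IsInvertible L ∧ CohB1.genLocus L s = U ∧
        ∀ M : X.Modules, PicF.IsInvertible M → ii k L M = ∑ y, (a y : ℚ) * ii k (N y) M := by
    intro a ha
    suffices ∀ T : Finset S, ∃ (L : X.Modules) (s : Coh.structureModule X ⟶ L), PicF.IsInvertible L ∧
        (∀ x, x ∈ CohB1.genLocus L s ↔ ∀ y ∈ T, x ∉ closure ({(y : S).1} : Set X)) ∧
        ∀ M : X.Modules, PicF.IsInvertible M → ii k L M = ∑ y ∈ T, (a y : ℚ) * ii k (N y) M by
      obtain ⟨L, s, hL, hg, hii⟩ := this Finset.univ
      refine ⟨L, s, hL, Opens.ext (Set.ext fun x => ?_), hii⟩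
      show x ∈ CohB1.genLocus L s ↔ x ∈ U
      rw [hg]
      refine ⟨fun h => by_contra fun hx => ?_, fun hx y _ hy => ?_⟩
      · obtain ⟨y, hy, hxy⟩ := hcov x hx
        exact h ⟨y, hy⟩ (Finset.mem_univ _) hxy
      · exact ((hS _).1 y.2).1 ((specializes_iff_mem_closure.2 hy).mem_open U.2 hx)
    intro T
    induction T using Finset.induction_on with
    | empty =>
      refine ⟨_, 𝟙 _, isInvertible_structureModule X, fun x => ?_, fun M hM => ?_⟩
      · rw [Groth.L18.Ample.genLocus_id]
        exact ⟨fun _ y hy => absurd hy (Finset.notMem_empty y), fun _ => trivial⟩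
      · rw [Finset.sum_empty]
        exact altT_unit k _
    | insert b T hb ih =>
      obtain ⟨L, s, hL, hg, hii⟩ := ih
      obtain ⟨n, hn⟩ := Nat.exists_eq_add_one.mpr (ha b)
      have hP := isInvertible_tensorPow (hN b) (n + 1)
      refine ⟨_, tensHom s (pw (σ b) (n + 1)), Groth.L18.GenLoc.isInvertible_tensor hL hP, fun x => ?_, fun M hM => ?_⟩
      · rw [genLocus_tensHom hL hP, genLocus_pw_succ (hN b)]
        show x ∈ CohB1.genLocus L s ∧ x ∈ CohB1.genLocus (N b) (σ b) ↔ _
        rw [hg, hgl, Finset.forall_mem_insert]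
        exact and_comm
      · rw [ii_tensor k hd hL hP hM, ii_pow k hd (hN b) hM, hii M hM, Finset.sum_insert hb, hn]
        ring
  have hscale : ∀ q : S → ℚ, (∀ y, 0 < q y) → ∃ (D : ℕ) (a : S → ℕ), 0 < D ∧ (∀ y, 0 < a y) ∧
      ∀ y, (a y : ℚ) = D * q y := fun q hq => by
    obtain ⟨D, z, hD, hz⟩ := exists_int q
    have hzp : ∀ y, 0 < z y := fun y => by
      have : (0 : ℚ) < z y := by rw [hz y]; exact mul_pos (Nat.cast_pos.2 hD) (hq y)
      exact_mod_cast this
    refine ⟨D, fun y => (z y).toNat, hD, fun y => by show 0 < (z y).toNat; have := hzp y; omega, fun y => ?_⟩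
    rw [← hz y]
    exact_mod_cast Int.toNat_of_nonneg (hzp y).le
  haveI : Nonempty S := ⟨⟨_, hne.choose_spec⟩⟩
  have hrow : ∀ (q : S → ℚ) (a : S → ℕ) (D : ℕ), (∀ y, (a y : ℚ) = D * q y) → ∀ y : S,
      ∑ z, (a z : ℚ) * ii k (N z) (N y) = D * ∑ z, G y z * q z := fun q a D haq y => by
    rw [Finset.mul_sum]
    exact Finset.sum_congr rfl fun z _ => by rw [haq z, ii_comm]; ring
  rcases Graph.dichotomy _ Finset.univ G rfl Finset.univ_nonempty (fun y _ z _ => hG0 y z)
      (fun y _ z _ => ii_comm k _ _) hconn with ⟨q, hq, hqrow⟩ | ⟨q, hq, hqrow⟩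
  · obtain ⟨D, a, hD, ha, haq⟩ := hscale q fun y => hq y (Finset.mem_univ y)
    obtain ⟨L, s, hL, hgU, hii⟩ := build a ha
    refine ⟨L, s, ?_, hgU⟩
    have hLy : ∀ y : S, 0 < ii k (N y) L := fun y => by
      rw [ii_comm, hii _ (hN y), hrow q a D haq y]
      exact mul_pos (Nat.cast_pos.2 hD) (hqrow y (Finset.mem_univ y))
    have huniv : topologicalKrullDim (Set.univ : Set X) = (2 : ℕ) :=
      (IsHomeomorph.topologicalKrullDim_eq _ (Homeomorph.Set.univ X).isHomeomorph).trans hdim
    refine Groth.L22.Nakai.isAmple_of_pos k hL fun y d hd0 hyd => ?_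
    have hd2 : d ≤ 2 := by
      have := hyd.symm.trans_le ((topologicalKrullDim_set_mono (Set.subset_univ _)).trans huniv.le)
      exact_mod_cast this
    rcases (show d = 1 ∨ d = 2 by omega) with rfl | rfl
    · by_cases hyU : y ∈ U
      · obtain ⟨z, hz, hzU⟩ := exists_notMem k hdim U hUa hyd
        exact altT_pt_pos k hdim hL s hyd (hgU.symm ▸ hyU) hz (hgU.symm ▸ hzU)
      · rw [hdeg L hL ⟨y, (hS y).2 ⟨hyU, hyd⟩⟩]
        exact hLy _
    · have hy : genericPoint X = y :=
        eq_of_specializes_top isClosed_univ huniv.le hyd trivial (genericPoint_specializes y)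
      rw [← hy, altT_integral k hdim fun _ => hL,
        show (fun _ : Fin 2 => L) = ![L, L] from funext fun i => by fin_cases i <;> rfl, ii_vec, hii L hL]
      exact Finset.sum_pos (fun z _ => mul_pos (Nat.cast_pos.2 (ha z)) (hLy z)) Finset.univ_nonempty
  · exfalso
    obtain ⟨D, a, hD, ha, haq⟩ := hscale q fun y => hq y (Finset.mem_univ y)
    obtain ⟨L, s, hL, hgU, hii⟩ := build a ha
    have hs : s ≠ 0 := fun h0 => by
      have hb := bijective_stalk_section s (hgU.symm ▸ hη)
      rw [h0, Functor.map_zero] at hb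
      exact (Groth.L16.CohSupport.len_eq_zero_iff (genericPoint X) (Coh.structureModule X)).not.1
        (by rw [Groth.L22.Nakai.len_structure']; exact one_ne_zero) fun hsub => hsub ⟨fun a b => hb.1 rfl⟩
    haveI : Mono s := Groth.L22.Nakai.mono_of_injective (isInvertible_structureModule X) s
      (bijective_stalk_section s (hgU.symm ▸ hη)).1
    obtain ⟨hQ, -⟩ := cokernel_facts k (isInvertible_structureModule X) hL s
    have hsupp : CohB1.support (cokernel s) ⊆ (U : Set X)ᶜ := fun x hx hxU => by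
      haveI : Coh.IsQCoh L := (Groth.L18.Ample.isCoh_of_isInvertible hL).1
      exact (notMem_support_cokernel_iff ..).2 ((Groth.L21.RR.mem_genLocus_iff hL s x).1 (hgU.symm ▸ hxU)) hx
    obtain ⟨C, hC⟩ := exists_h0_bound k hL hQ ((topologicalKrullDim_set_mono hsupp).trans hd1) fun y hy hyd => by
      rw [hdeg L hL ⟨y, (hS y).2 ⟨hsupp hy, hyd⟩⟩, ii_comm, hii _ (hN _), hrow q a D haq _]
      exact mul_nonpos_of_nonneg_of_nonpos (Nat.cast_nonneg _) (hqrow _ (Finset.mem_univ _))
    have step : ∀ m, h0 k (CohB1.tensorPow L (m + 1)) ≤ h0 k (CohB1.tensorPow L m) + C := fun m => by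
      let T : ShortComplex X.Modules := ShortComplex.mk s (cokernel.π s) (cokernel.condition s)
      have hT : T.ShortExact := { exact := ShortComplex.exact_cokernel s }
      have hP := isInvertible_tensorPow hL m
      have key := h0_le_add k (shortExact_tensor hP hT) (isCoh_tensor hP Groth.L16.CohClosedPush.isCoh_structure)
        (isCoh_tensor hP (Groth.L18.Ample.isCoh_of_isInvertible hL)) (isCoh_tensor hP hQ)
      have e1 : h0 k (CohB1.tensorMod (Coh.structureModule X) (CohB1.tensorPow L m)) = h0 k (CohB1.tensorPow L m) :=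
        h0_iso k (Groth.L00.Tensor.tensorUnitLeft _)
      have e2 : h0 k (CohB1.tensorMod L (CohB1.tensorPow L m)) = h0 k (CohB1.tensorPow L (m + 1)) :=
        h0_iso k (Groth.L00.Tensor.tensorComm _ _)
      change h0 k (CohB1.tensorMod L (CohB1.tensorPow L m)) ≤
        h0 k (CohB1.tensorMod (Coh.structureModule X) (CohB1.tensorPow L m)) + h0 k (CohB1.tensorMod (cokernel s) (CohB1.tensorPow L m)) at key
      have := hC m
      omega
    have hlin : ∀ m, h0 k (CohB1.tensorPow L m) ≤ h0 k (CohB1.tensorPow L 0) + m * C := fun m => by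
      induction m with
      | zero => omega
      | succ m ih => have := step m; rw [Nat.succ_mul]; omega
    obtain ⟨D', hD', hgrow⟩ := exists_sq_le_h0 s hL k (hgU.symm ▸ hU) (hgU.symm ▸ hUa) hdim
    set B := h0 k (CohB1.tensorPow L 0)
    have h1 := (hgrow (D' * C + B + 1)).trans (hlin (D' * (D' * C + B + 1)))
    rw [show D' * (D' * C + B + 1) * C = (D' * C) * (D' * C + B + 1) by ring] at h1
    generalize D' * C = E at h1
    nlinarith [Nat.zero_le (E * B), Nat.zero_le E, Nat.zero_le B]

end Groth.L03.SurfAmple
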